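import Cfsg.Agent.Lib.FischerMult24.Lifts

/-!
A central kernel is trivial.
-/

set_option autoImplicit false
set_option linter.unusedSectionVars false
set_option linter.style.haveILetI false
set_option maxRecDepth 100000

namespace Cfsg.Agent.FischerMult24

open Cfsg.Agent.Fischer
open Cfsg.Agent.Fischer.Factor
open Cfsg.Agent.FischerUnique24 (Ctx Com Hd)
open Cfsg.Agent.FischerInvol24 (Facts)

universe u v

section Braid

variable {G : Type u} [Group G] {D : Set G}

/-- In a path of three, a commuting pair exchanging the ends. -/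
theorem braid_swap (hT : Cfsg.IsThreeTranspositionGroup D) {l a s : G} (hl : l ∈ D) (ha : a ∈ D) (hs : s ∈ D)
    (hla : ¬ Commute l a) (has : ¬ Commute a s) (hls : Commute l s) :
    l * (a * s * a) * l ∈ D ∧ Commute a (l * (a * s * a) * l) ∧
      a * (l * (a * s * a) * l) * l * (a * (l * (a * s * a) * l))⁻¹ = s ∧
      a * (l * (a * s * a) * l) * s * (a * (l * (a * s * a) * l))⁻¹ = l := by
  have iv : ∀ {x : G}, x ∈ D → x⁻¹ = x := fun h => TSet.inv hT.1 h
  have sq : ∀ {x : G}, x ∈ D → x * x = 1 := fun h => TSet.sq hT.1 h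
  set y := a * s * a with hy
  have hyD : y ∈ D := by
    have := hT.2.1 a s hs
    rwa [iv ha] at this
  have hly : ¬ Commute l y := fun h => by
    have h1 := (commute_conj_iff a l y).2 h
    rw [iv ha, hy, show a * (a * s * a) * a = (a * a) * s * (a * a) by group, sq ha, one_mul, mul_one,
      TSet.braid hT.1 ha hl (fun h => hla h.symm)] at h1
    have h2 := (commute_conj_iff l (l * a * l) s).2 h1
    rw [iv hl, show l * (l * a * l) * l = (l * l) * a * (l * l) by group, sq hl, one_mul, mul_one, hls.eq,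
      mul_assoc s l l, sq hl, mul_one] at h2
    exact has h2
  set b := l * y * l with hb
  have hbD : b ∈ D := by
    have := hT.2.1 l y hyD
    rwa [iv hl] at this
  have hab : Commute a b := by
    have h1 := (commute_conj_iff a l s).2 hls
    rw [iv ha, TSet.braid hT.1 ha hl (fun h => hla h.symm), ← hy] at h1
    have h2 := (commute_conj_iff l (l * a * l) y).2 h1
    rwa [iv hl, show l * (l * a * l) * l = (l * l) * a * (l * l) by group, sq hl, one_mul, mul_one, ← hb] at h2
  have e : a * b * l * (a * b)⁻¹ = s := by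
    have e1 : b * l * b = y := by
      have hbr := TSet.braid hT.1 hl hyD hly
      calc b * l * b = l * y * ((l * l) * (l * y * l)) := by rw [hb]; group
        _ = l * y * (l * y * l) := by rw [sq hl, one_mul]
        _ = l * (y * l * y) * l := by group
        _ = (l * l) * y * (l * l) := by rw [← hbr]; group
        _ = y := by rw [sq hl, one_mul, mul_one]
    calc a * b * l * (a * b)⁻¹ = a * (b * l * b) * a := by rw [mul_inv_rev, iv ha, iv hbD]; group
      _ = (a * a) * s * (a * a) := by rw [e1, hy]; group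
      _ = s := by rw [sq ha, one_mul, mul_one]
  refine ⟨hbD, hab, e, ?_⟩
  have e2 : a * b * (a * b) = 1 := by
    rw [hab.symm.mul_mul_mul_comm, sq ha, sq hbD, one_mul]
  calc a * b * s * (a * b)⁻¹ = (a * b * (a * b)) * l * ((a * b) * (a * b))⁻¹ := by rw [← e]; group
    _ = l := by rw [e2]; group

end Braid

variable {G : Type} [Group G] [Finite G] {X : Type v} [Group X] [Finite X] {D : Set G} {D1 : Set X}

/-- The joint centraliser of two commuting members is generated by them and their common neighbours. -/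
theorem centralizer_edge (F : Facts D) {l s : G} (hl : l ∈ D) (hs : s ∈ Nb D l) :
    Subgroup.centralizer ({l, s} : Set G) ≤ Subgroup.closure (Com D l s ∪ {l, s}) := by
  obtain ⟨π, P⟩ := F.pair_map hl hs
  set K := (Subgroup.closure (Com D l s ∪ {l, s})).subgroupOf (Subgroup.centralizer ({l, s} : Set G))
  have htop : (⊤ : Subgroup _) ≤ K.map π := by
    rw [← FischerPresented.Fi22Class.isClass.2.2, Subgroup.closure_le]
    intro w hw
    obtain ⟨g, hg1, hg2, e⟩ := P.lift w hw
    exact ⟨g, Subgroup.subset_closure (Or.inl ⟨hg1, hg2⟩), e⟩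
  intro g hg
  obtain ⟨k, hk, e⟩ := htop (Subgroup.mem_top (π ⟨g, hg⟩))
  have h1 : π (k⁻¹ * ⟨g, hg⟩) = 1 := by rw [map_mul, map_inv, e, inv_mul_cancel]
  have hls : ∀ x ∈ ({1, l, s, l * s} : Set G), x ∈ Subgroup.closure (Com D l s ∪ {l, s}) := by
    rintro x (rfl | rfl | rfl | rfl)
    exacts [one_mem _, Subgroup.subset_closure (Or.inr (Or.inl rfl)), Subgroup.subset_closure (Or.inr (Or.inr rfl)),
      mul_mem (Subgroup.subset_closure (Or.inr (Or.inl rfl))) (Subgroup.subset_closure (Or.inr (Or.inr rfl)))]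
  have h2 : ((k⁻¹ * ⟨g, hg⟩ : Subgroup.centralizer ({l, s} : Set G)) : G) ∈ ({1, l, s, l * s} : Set G) := by
    simpa using (P.ker _).1 h1
  have := mul_mem (show (k : G) ∈ Subgroup.closure (Com D l s ∪ {l, s}) from hk) (hls _ h2)
  rwa [Subgroup.coe_mul, Subgroup.coe_inv, mul_inv_cancel_left] at this

/-- The common neighbours of an edge are conjugate under its centraliser. -/
theorem trans_edge (F : Facts D) (C : Ctx D D1) {l s r r' : G} (hl : l ∈ D) (hs : s ∈ Nb D l)
    (hr : r ∈ Com D l s) (hr' : r' ∈ Com D l s) :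
    ∃ g, Commute g l ∧ Commute g s ∧ g * r * g⁻¹ = r' := by
  obtain ⟨π, P⟩ := F.pair_map hl hs
  have mem : ∀ y ∈ Com D l s, y ∈ Subgroup.centralizer ({l, s} : Set G) := fun y hy =>
    Subgroup.mem_centralizer_iff.2 (by rintro t (rfl | rfl); exacts [hy.1.2.2.eq, hy.2.2.2.eq])
  obtain ⟨q₀, hq₀⟩ := FischerPresented.Fi22Class.mem_D.1 (P.mem ⟨r, mem r hr⟩ hr.1 hr.2)
  obtain ⟨q, hq⟩ := FischerPresented.Fi22Class.mem_D.1 (P.mem ⟨r', mem r' hr'⟩ hr'.1 hr'.2)
  obtain ⟨⟨h, hh⟩, hπ⟩ := P.surj (q * q₀⁻¹)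
  have h1 : Commute h l := (Subgroup.mem_centralizer_iff.1 hh l (Or.inl rfl)).symm
  have h2 : Commute h s := (Subgroup.mem_centralizer_iff.1 hh s (Or.inr rfl)).symm
  have n1 : h * r * h⁻¹ ∈ Nb D l := by
    have := nb_conj C.group h hr.1; rwa [conj_eq_self_of_commute h1] at this
  have n2 : h * r * h⁻¹ ∈ Nb D s := by
    have := nb_conj C.group h hr.2; rwa [conj_eq_self_of_commute h2] at this
  exact ⟨h, h1, h2, congrArg Subtype.val (P.inj F hl hs (a := ⟨h, hh⟩ * ⟨r, mem r hr⟩ * ⟨h, hh⟩⁻¹)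
    (b := ⟨r', mem r' hr'⟩) n1 n2 hr'.1 (by rw [map_mul, map_mul, map_inv, hπ, ← hq₀, ← hq]; group))⟩

variable {Γ : Type} [Group Γ] {p : Γ →* G} {l : G} {t : Γ} (S : Stem p l t) (hc : ∀ m ∈ p.ker, Commute m t)
  (C : Ctx D D1) (hl : l ∈ D) (hout : ∀ d ∈ D, d ∉ commutator G) (hidx : (commutator G).index = 2)
include S hc C hl hout hidx

/-- A central kernel is trivial. -/
theorem Stem.central_trivial (V : FischerQuad.Env D) : p.ker = ⊥ := by
  classical
  obtain ⟨T, L⟩ := S.exists_lifts hc C hl hout hidx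
  have F := V.facts
  set H := Subgroup.closure (T '' insert l (Nb D l)) with hH
  have hinf := Lifts.complement S hc C hl hout hidx V L
  have hTH : ∀ {x : G}, (x = l ∨ x ∈ Nb D l) → T x ∈ H := fun h => Subgroup.subset_closure ⟨_, h, rfl⟩
  have hproj : ∀ {S' : Set G}, (∀ x ∈ S', x ∈ D) → (Subgroup.closure (T '' S')).map p = Subgroup.closure S' := by
    intro S' hS'
    rw [MonoidHom.map_closure, ← Set.image_comp]
    congr 1
    exact Set.ext fun x => ⟨fun ⟨y, hy, e⟩ => by rwa [← e, Function.comp_apply, L.proj y (hS' y hy)],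
      fun hx => ⟨x, hx, L.proj x (hS' x hx)⟩⟩
  have hmap : H.map p = Subgroup.centralizer ({l} : Set G) := by
    rw [hproj (by rintro x (rfl | h); exacts [hl, h.1]), C.centralizer hl]
    refine le_antisymm ((Subgroup.closure_le _).2 ?_) (Subgroup.closure_mono (Set.subset_insert _ _))
    rintro x (rfl | h)
    exacts [C.mem_self hl, Subgroup.subset_closure h]
  have hHl : ∀ {h : Γ}, h ∈ H → Commute (p h) l := fun {h} hh =>
    Subgroup.mem_centralizer_singleton_iff.1 (hmap ▸ Subgroup.mem_map_of_mem p hh)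
  have hlift : ∀ {g : G}, Commute g l → ∃ h ∈ H, p h = g := fun {g} hg => by
    have : g ∈ H.map p := hmap.symm ▸ Subgroup.mem_centralizer_singleton_iff.2 hg.eq
    obtain ⟨h, hh, e⟩ := this
    exact ⟨h, hh, e⟩
  obtain ⟨a, s, c, r, P⟩ := exists_path C hl
  have hT := C.group
  have sq : ∀ {x : G}, x ∈ D → x * x = 1 := fun h => TSet.sq hT.1 h
  have iv : ∀ {x : G}, x ∈ D → x⁻¹ = x := fun h => TSet.inv hT.1 h
  obtain ⟨hbD, hab, hul, hus⟩ := braid_swap hT hl P.ha P.hs.1 P.la P.as P.hs.2.2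
  set b := l * (a * s * a) * l with hb
  obtain ⟨hdD, hcd, hqs, -⟩ := braid_swap hT P.hs.1 P.hc P.hr.1.1 P.sc P.cr P.hr.2.2.2
  set d := s * (c * r * c) * s with hd
  -- the lifted swap
  set u := T a * T b with hu
  have hTab : Commute (T a) (T b) := L.comm a P.ha b hbD hab
  have hu2 : u * u = 1 := by rw [hu, hTab.symm.mul_mul_mul_comm, L.sq a P.ha, L.sq b hbD, one_mul]
  have hui : u⁻¹ = u := inv_eq_of_mul_eq_one_right hu2
  have hpu : p u = a * b := by rw [hu, map_mul, L.proj a P.ha, L.proj b hbD]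
  have hptu : Pt p l u = s := by rw [Pt, hpu, hul]
  have hus' : p u * s * (p u)⁻¹ = l := by rw [hpu, hus]
  have hul' : p u * l * (p u)⁻¹ = s := by rw [hpu, hul]
  have hHC : ∀ h ∈ H, Commute (p h) s → u * h * u ∈ H := by
    intro h hh hhs
    set Q := Subgroup.closure (T '' (Com D l s ∪ {l, s})) with hQ
    have hQm : ∀ x ∈ Com D l s ∪ {l, s}, x ∈ D ∧ (x = l ∨ x ∈ Nb D l) := by
      rintro x (hx | rfl | rfl)
      exacts [⟨hx.1.1, Or.inr hx.1⟩, ⟨hl, Or.inl rfl⟩, ⟨P.hs.1, Or.inr P.hs⟩]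
    have hQH : Q ≤ H := (Subgroup.closure_le _).2 (by rintro _ ⟨x, hx, rfl⟩; exact hTH (hQm x hx).2)
    obtain ⟨h', hh', e⟩ : p h ∈ Q.map p := by
      rw [hproj fun x hx => (hQm x hx).1]
      refine centralizer_edge F hl P.hs (Subgroup.mem_centralizer_iff.2 ?_)
      rintro x (rfl | rfl)
      exacts [(hHl hh).symm.eq, hhs.symm.eq]
    have hhQ : h ∈ Q := by
      rw [← inv_mul_eq_one.1 (hinf (h'⁻¹ * h) (mul_mem (inv_mem (hQH hh')) hh)
        (by rw [map_mul, map_inv, e, inv_mul_cancel]))]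
      exact hh'
    suffices Q ≤ H.comap (MulAut.conj u).toMonoidHom by
      have h' := this hhQ
      rw [Subgroup.mem_comap] at h'
      simpa [hui] using h'
    refine (Subgroup.closure_le _).2 ?_
    rintro _ ⟨x, hx, rfl⟩
    show u * T x * u⁻¹ ∈ H
    rw [← L.conj u x (hQm x hx).1]
    refine hTH ?_
    rcases hx with hx | rfl | rfl
    · exact Or.inr (hus' ▸ nb_conj hT (p u) hx.2)
    · exact Or.inr (hul'.symm ▸ P.hs)
    · exact Or.inl hus'
  set A := {γ : Γ | ∃ h ∈ H, ∃ k ∈ H, γ = h * u * k} with hA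
  have hptA : ∀ h k, k ∈ H → Pt p l (h * u * k) = p h * s * (p h)⁻¹ := fun h k hk => by
    rw [pt_mul]
    have e : Pt p l k = l := by rw [Pt, (hHl hk).eq, mul_inv_cancel_right]
    rw [e, show p (h * u) * l * (p (h * u))⁻¹ = p h * (p u * l * (p u)⁻¹) * (p h)⁻¹ by rw [map_mul]; group, hul']
  have hnbH : ∀ {h : Γ} {x : G}, h ∈ H → x ∈ Nb D l → p h * x * (p h)⁻¹ ∈ Nb D l := fun {h x} hh hx => by
    have := nb_conj hT (p h) hx
    rwa [(hHl hh).eq, mul_inv_cancel_right] at this
  have R : Cover p D l H A := by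
    refine ⟨hinf, hmap, ?_, ?_, ?_, ?_, ?_, ?_, ?_⟩
    · rintro h hh _ ⟨h1, hh1, k, hk, rfl⟩
      exact ⟨h * h1, mul_mem hh hh1, k, hk, by group⟩
    · rintro _ ⟨h1, hh1, k, hk, rfl⟩ h hh
      exact ⟨h1, hh1, k * h, mul_mem hk hh, by group⟩
    · rintro _ ⟨h1, hh1, k, hk, rfl⟩
      rw [hptA h1 k hk]; exact hnbH hh1 P.hs
    · intro s' hs'
      obtain ⟨g, hgl, hgs⟩ := C.trans_near hl P.hs hl hs'
      obtain ⟨h, hh, rfl⟩ := hlift (g := g) (mul_inv_eq_iff_eq_mul.1 hgl)
      exact ⟨h * u * 1, ⟨h, hh, 1, one_mem _, rfl⟩, by rw [hptA h 1 (one_mem _), hgs]⟩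
    · rintro _ ⟨h, hh, k, hk, rfl⟩ _ ⟨h', hh', k', hk', rfl⟩ e
      rw [hptA h k hk, hptA h' k' hk'] at e
      have hcs : Commute (p (h⁻¹ * h')) s := by
        rw [map_mul, map_inv]
        show (p h)⁻¹ * p h' * s = s * ((p h)⁻¹ * p h')
        calc (p h)⁻¹ * p h' * s = (p h)⁻¹ * (p h' * s * (p h')⁻¹) * p h' := by group
          _ = (p h)⁻¹ * (p h * s * (p h)⁻¹) * p h' := by rw [← e]
          _ = s * ((p h)⁻¹ * p h') := by group
      have := hHC _ (mul_mem (inv_mem hh) hh') hcs
      rw [show (h * u * k)⁻¹ * (h' * u * k') = k⁻¹ * (u⁻¹ * (h⁻¹ * h') * u) * k' by group, hui]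
      exact mul_mem (mul_mem (inv_mem hk) this) hk'
    · rintro _ ⟨h, hh, k, hk, rfl⟩
      exact ⟨k⁻¹, inv_mem hk, h⁻¹, inv_mem hh, by rw [mul_inv_rev, mul_inv_rev, hui]; group⟩
    · rintro _ ⟨h, hh, k, hk, rfl⟩ _ ⟨h', hh', k', hk', rfl⟩ e
      rw [hptA h k hk, hptA h' k' hk'] at e
      set h2 := h⁻¹ * h' with hh2
      have hh2H : h2 ∈ H := mul_mem (inv_mem hh) hh'
      set s2 := p h2 * s * (p h2)⁻¹ with hs2
      have hs2' : s2 ∈ Com D l s := by
        refine ⟨hnbH hh2H P.hs, ?_⟩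
        have := nb_conj hT (p h)⁻¹ e
        rwa [inv_inv, show (p h)⁻¹ * (p h' * s * (p h')⁻¹) * p h = s2 by rw [hs2, hh2, map_mul, map_inv]; group,
          show (p h)⁻¹ * (p h * s * (p h)⁻¹) * p h = s by group] at this
      obtain ⟨g, hgl, hgs, hgr⟩ := trans_edge F C hl P.hs P.hr hs2'
      obtain ⟨hg, hgH, rfl⟩ := hlift hgl
      -- the swap of the far end
      have lr : Commute l r := P.hr.1.2.2
      have ls : Commute l s := P.hs.2.2
      have hld : Commute l d := ((ls.mul_right ((P.lc.mul_right lr).mul_right P.lc)).mul_right ls)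
      set qq := T c * T d with hqq
      have hcn : c ∈ Nb D l ∨ c = l := by
        by_cases e : c = l
        exacts [Or.inr e, Or.inl ⟨P.hc, e, P.lc⟩]
      have hqH : qq ∈ H := by
        refine mul_mem (hTH hcn.symm) (hTH ?_)
        by_cases e : d = l
        exacts [Or.inl e, Or.inr ⟨hdD, e, hld⟩]
      have hTcd : Commute (T c) (T d) := L.comm c P.hc d hdD hcd
      have hq2 : qq * qq = 1 := by rw [hqq, hTcd.symm.mul_mul_mul_comm, L.sq c P.hc, L.sq d hdD, one_mul]
      have hpq : p qq = c * d := by rw [hqq, map_mul, L.proj c P.hc, L.proj d hdD]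
      set h3 := (hg * qq)⁻¹ * h2 with hh3
      have hh3H : h3 ∈ H := mul_mem (inv_mem (mul_mem hgH hqH)) hh2H
      have hh3s : Commute (p h3) s := by
        have e1 : p (hg * qq) * s * (p (hg * qq))⁻¹ = s2 := by
          rw [map_mul, show p hg * p qq * s * (p hg * p qq)⁻¹ = p hg * (p qq * s * (p qq)⁻¹) * (p hg)⁻¹ by group,
            hpq, hqs, hgr]
        refine mul_inv_eq_iff_eq_mul.1 ?_
        calc p h3 * s * (p h3)⁻¹ = (p (hg * qq))⁻¹ * (p h2 * s * (p h2)⁻¹) * p (hg * qq) := by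
              rw [hh3, map_mul, map_inv]; group
          _ = (p (hg * qq))⁻¹ * (p (hg * qq) * s * (p (hg * qq))⁻¹) * p (hg * qq) := by rw [e1, hs2]
          _ = s := by group
      -- the two swaps satisfy the braid relation
      have hbc : ¬ Commute b c := fun hh => by
        have h1 := (commute_conj_iff l b c).2 hh
        rw [iv hl, hb, show l * (l * (a * s * a) * l) * l = (l * l) * (a * s * a) * (l * l) by group, sq hl, one_mul,
          mul_one, P.lc.eq, mul_assoc c l l, sq hl, mul_one] at h1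
        have h2' := (commute_conj_iff a (a * s * a) c).2 h1
        rw [iv P.ha, show a * (a * s * a) * a = (a * a) * s * (a * a) by group, sq P.ha, one_mul, mul_one, P.ac.eq,
          mul_assoc c a a, sq P.ha, mul_one] at h2'
        exact P.sc h2'
      have hsas : a * s * a = s * a * s := TSet.braid hT.1 P.ha P.hs.1 P.as
      have haz : Commute a (c * r * c) := (P.ac.mul_right P.ar).mul_right P.ac
      have had : ¬ Commute a d := fun hh => by
        have h1 := (commute_conj_iff s a d).2 hh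
        rw [iv P.hs.1, ← hsas, hd, show s * (s * (c * r * c) * s) * s = (s * s) * (c * r * c) * (s * s) by group,
          sq P.hs.1, one_mul, mul_one] at h1
        have h2' := (commute_conj_iff a _ _).2 h1
        rw [iv P.ha, show a * (a * s * a) * a = (a * a) * s * (a * a) by group, sq P.ha, one_mul, mul_one, haz.eq,
          mul_assoc (c * r * c) a a, sq P.ha, mul_one, TSet.braid hT.1 P.hc P.hr.1.1 P.cr] at h2'
        have h3' := (commute_conj_iff r s (r * c * r)).2 h2'
        rw [iv P.hr.1.1, show r * (r * c * r) * r = (r * r) * c * (r * r) by group, sq P.hr.1.1, one_mul, mul_one,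
          ← P.hr.2.2.2.eq, mul_assoc s r r, sq P.hr.1.1, mul_one] at h3'
        exact P.sc h3'
      have hbd : Commute b d := by
        have h1 := (commute_conj_iff s a (c * r * c)).2 haz
        rw [iv P.hs.1, ← hsas, ← hd] at h1
        have h2' := (commute_conj_iff l _ _).2 h1
        rwa [iv hl, ← hb, hld.eq, mul_assoc d l l, sq hl, mul_one] at h2'
      have euc : p u * c * (p u)⁻¹ = b * c * b := by
        rw [hpu, mul_inv_rev, iv P.ha, iv hbD, hab.eq,
          show b * a * c * (b * a) = b * (a * c) * (b * a) by group, P.ac.eq,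
          show b * (c * a) * (b * a) = b * c * (a * b) * a by group, hab.eq,
          show b * c * (b * a) * a = b * c * b * (a * a) by group, sq P.ha, mul_one]
      have eud : p u * d * (p u)⁻¹ = a * d * a := by
        rw [hpu, mul_inv_rev, iv P.ha, iv hbD, show a * b * d * (b * a) = a * (b * d) * (b * a) by group, hbd.eq,
          show a * (d * b) * (b * a) = a * d * (b * b) * a by group, sq hbD, mul_one]
      have eqb : p qq * b * (p qq)⁻¹ = b * c * b := by
        rw [hpq, mul_inv_rev, iv P.hc, iv hdD, show c * d * b * (d * c) = c * (d * b) * (d * c) by group, ← hbd.eq,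
          show c * (b * d) * (d * c) = c * b * (d * d) * c by group, sq hdD, mul_one,
          ← TSet.braid hT.1 hbD P.hc hbc]
      have eqa : p qq * a * (p qq)⁻¹ = a * d * a := by
        rw [hpq, mul_inv_rev, iv P.hc, iv hdD, hcd.eq,
          show d * c * a * (d * c) = d * (c * a) * (d * c) by group, ← P.ac.eq,
          show d * (a * c) * (d * c) = d * a * (c * d) * c by group, hcd.eq,
          show d * a * (d * c) * c = d * a * d * (c * c) by group, sq P.hc, mul_one,
          ← TSet.braid hT.1 P.ha hdD had]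
      have key : u * qq * u = qq * u * qq := by
        have e1 : u * qq * u = T (b * c * b) * T (a * d * a) := by
          rw [← euc, ← eud, L.conj u c P.hc, L.conj u d hdD, hqq, hui]
          calc u * (T c * T d) * u = (u * T c) * (1 : Γ) * (T d * u) := by group
            _ = u * T c * u * (u * T d * u) := by rw [← hu2]; group
        have hqi : qq⁻¹ = qq := inv_eq_of_mul_eq_one_right hq2
        have e2 : qq * u * qq = T (a * d * a) * T (b * c * b) := by
          rw [← eqa, ← eqb, L.conj qq a P.ha, L.conj qq b hbD, hu, hqi]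
          calc qq * (T a * T b) * qq = (qq * T a) * (1 : Γ) * (T b * qq) := by group
            _ = qq * T a * qq * (qq * T b * qq) := by rw [← hq2]; group
        have hcc : Commute (T (a * d * a)) (T (b * c * b)) := by
          refine L.comm _ ?_ _ ?_ ?_
          · rw [← eqa]; exact C.group.2.1 _ a P.ha
          · rw [← eqb]; exact C.group.2.1 _ b hbD
          · rw [← eqa, ← eqb]; exact (commute_conj_iff (p qq) a b).2 hab
        rw [e1, e2, hcc.eq]
      have hsh : ∀ x ∈ H, Commute (p x) s → u * x * u ∈ H := hHC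
      refine ⟨k⁻¹ * (u * hg * u) * qq, mul_mem (mul_mem (inv_mem hk) (hsh hg hgH hgs)) hqH,
        qq * (u * h3 * u) * k', mul_mem (mul_mem hqH (hsh h3 hh3H hh3s)) hk', ?_⟩
      calc (h * u * k)⁻¹ * (h' * u * k') = k⁻¹ * (u⁻¹ * h2 * u) * k' := by rw [hh2]; group
        _ = k⁻¹ * (u * (hg * qq * h3) * u) * k' := by rw [hui, hh3, mul_inv_cancel_left]
        _ = k⁻¹ * (u * hg * (1 : Γ) * qq * (1 : Γ) * h3 * u) * k' := by group
        _ = k⁻¹ * (u * hg * u) * (u * qq * u) * (u * h3 * u) * k' := by rw [← hu2]; group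
        _ = k⁻¹ * (u * hg * u) * (qq * u * qq) * (u * h3 * u) * k' := by rw [key]
        _ = _ := by group
  -- squares close
  have hsq : ∀ e ∈ D, ¬ Commute l e → ∀ s' ∈ Com D l e, ∀ s'' ∈ Com D l e, ∀ γ γ', IsVia p l A s' e γ →
      IsVia p l A s'' e γ' → γ⁻¹ * γ' ∈ (⊥ : Subgroup Γ) ⊔ H := by
    intro e he hne s' hs' s'' hs'' γ γ' ⟨hγ, x, hx, y, hy, hxs, hxy⟩ ⟨hγ', x', hx', y', hy', hxs', hxy'⟩
    rw [bot_sup_eq]
    obtain ⟨g, hg, hgs⟩ := C.trans_com hne hl he hs' hs''
    set Q := Subgroup.closure (T '' Com D l e) with hQ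
    have hQH : Q ≤ H := (Subgroup.closure_le _).2 (by rintro _ ⟨z, hz, rfl⟩; exact hTH (Or.inr hz.1))
    obtain ⟨h, hh, rfl⟩ : g ∈ Q.map p := by rw [hproj fun z hz => hz.1.1]; exact hg
    have hfix : Q ≤ H.comap (MulAut.conj γ⁻¹).toMonoidHom := by
      refine (Subgroup.closure_le _).2 ?_
      rintro _ ⟨z, hz, rfl⟩
      show γ⁻¹ * T z * γ⁻¹⁻¹ ∈ H
      rw [← L.conj γ⁻¹ z hz.1.1]
      refine hTH (Or.inr ?_)
      rw [map_inv]
      refine (nb_iff C (p := p) (l := l) γ).1 ?_
      rw [hγ, inv_inv, show p γ * ((p γ)⁻¹ * z * p γ) * (p γ)⁻¹ = z by group]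
      exact hz.2
    have hγH : γ⁻¹ * (h * γ) ∈ H := by
      have h' := hfix hh
      rw [Subgroup.mem_comap] at h'
      simpa [mul_assoc] using h'
    obtain ⟨h1, hh1, k1, hk1, ex⟩ := hx
    have hhx : h * x ∈ A := ⟨h * h1, mul_mem (hQH hh) hh1, k1, hk1, by rw [ex]; group⟩
    have hhxs : Pt p l (h * x) = s'' := by rw [pt_mul, hxs, hgs]
    have i1 := R.uniq _ hhx _ hx' (hhxs.trans hxs'.symm)
    have hhe : Pt p l (h * γ) = e := by
      rw [pt_mul, hγ]
      have := Subgroup.mem_centralizer_iff.1 (C.com_le hg) e (Or.inr rfl)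
      rw [← this, mul_inv_cancel_right]
    have i2 := R.step_uniq (γ := h * x) hy (R.left _ i1 y' hy') (by
      rw [show h * x * ((h * x)⁻¹ * x' * y') = x' * y' by group, ← hxy', hγ', mul_assoc, ← hxy, hhe])
    rw [show γ⁻¹ * γ' = (γ⁻¹ * (h * γ)) * ((h * γ)⁻¹ * γ') by group]
    refine mul_mem hγH ?_
    rw [hxy, hxy', show (h * (x * y))⁻¹ * (x' * y') = y⁻¹ * ((h * x)⁻¹ * x' * y') by group]
    exact i2
  obtain ⟨hW, hWtop⟩ := R.kernel_le C ⊥ hl bot_le hsq
  exact (Subgroup.eq_bot_iff_forall _).2 fun m hm => Subgroup.mem_bot.1 (hW ⟨S.ker_le hWtop hm, hm⟩)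

end Cfsg.Agent.FischerMult24
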