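import Cfsg.Agent.Lib.FischerUnique24.Chart23
import Cfsg.Agent.Lib.FischerUnique24.Count
import Cfsg.Agent.Lib.FischerPresented.Out23Tr
import Cfsg.Agent.Lib.FischerUnique23.Facts
import Cfsg.Agent.Lib.FischerQuad.Points
import Cfsg.Agent.Lib.FischerInvol24.Classes

/-!
A path of five transpositions through a given one, and three commuting quads with the same product.
-/

set_option autoImplicit false
set_option linter.unusedSectionVars false
set_option linter.style.haveILetI false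
set_option maxRecDepth 100000

namespace Cfsg.Agent.FischerMult24

open Cfsg.Agent.Fischer
open Cfsg.Agent.Fischer.Factor
open Cfsg.Agent.CosetCert
open Cfsg.Agent.CosetData
open Cfsg.Agent.FischerPresented
open Cfsg.Agent.FischerUnique23 (gT)
open Cfsg.Agent.FischerUnique24 (Ctx Com IsChart)

universe u v

theorem path_ok : (([(0, 2), (0, 3), (0, 4), (1, 3), (1, 4), (2, 4)] : List (ℕ × ℕ)).all fun p =>
    wordFixPts Fi23A.P 31671 Fi23.pts [p.1, p.2, p.1, p.2]) = true := by decide +kernel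

theorem gpt_distinct : allBelow (fun i => allBelow (fun j => !(Nat.beq (Out23.gpt i) (Out23.gpt j))) i) 5 = true := by
  decide +kernel

theorem gT_comm {i j : ℕ} (h : (i, j) ∈ ([(0, 2), (0, 3), (0, 4), (1, 3), (1, 4), (2, 4)] : List (ℕ × ℕ))) :
    Commute (gT i) (gT j) := by
  have h' := Fi23.word_one (List.all_eq_true.1 path_ok _ h)
  simp only [wprod, List.map_cons, List.map_nil, List.prod_cons, List.prod_nil, mul_one] at h'
  exact (Fischer.commute_iff_sq_eq_one (Setup.gen_invol Fi23A.setup i) (Setup.gen_invol Fi23A.setup j)).2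
    (by rw [pow_two, mul_assoc]; exact h')

theorem gT_ne {i j : ℕ} (hj : j < i) (hi : i < 5) : gT i ≠ gT j := by
  intro h
  obtain ⟨h1, e1⟩ := Out23.tr_gpt (x := i) (by omega)
  obtain ⟨h2, e2⟩ := Out23.tr_gpt (x := j) (by omega)
  have := Out23.tr_injective (e1.trans (h.trans e2.symm))
  have hb := allBelow_spec (allBelow_spec gpt_distinct hi) hj
  rw [Bool.not_eq_true'] at hb
  rw [Fin.ext_iff] at this
  simp only at this
  rw [this, Nat.beq_refl] at hb
  exact Bool.noConfusion hb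

theorem gT_far {i : ℕ} (hi : i < 4) : ¬ Commute (gT i) (gT (i + 1)) := by
  intro h
  refine gT_ne (Nat.lt_succ_self i) (by omega) ?_
  have h2 : (gT i * gT (i + 1)) ^ 2 = 1 :=
    (Fischer.commute_iff_sq_eq_one (Setup.gen_invol Fi23A.setup i) (Setup.gen_invol Fi23A.setup (i + 1))).1 h
  have h3 : (gT i * gT (i + 1)) ^ 3 = 1 := Fi23.braid_rel (p := (i, i + 1)) (by
    interval_cases i <;> simp [Fi23.braid])
  rw [pow_succ, h2, one_mul] at h3
  exact ((mul_eq_one_iff_eq_inv.1 h3).trans (inv_eq_of_mul_eq_one_right (Setup.gen_invol Fi23A.setup (i + 1)))).symm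

variable {G : Type u} [Group G] [Finite G] {X : Type v} [Group X] [Finite X] {D : Set G} {D1 : Set X}

/-- A path of five transpositions starting at a given one. -/
structure Path (D : Set G) (l a s c r : G) : Prop where
  la : ¬ Commute l a
  as : ¬ Commute a s
  sc : ¬ Commute s c
  cr : ¬ Commute c r
  ha : a ∈ D
  hc : c ∈ D
  hs : s ∈ Nb D l
  hr : r ∈ Nb D l ∩ Nb D s
  lc : Commute l c
  ac : Commute a c
  ar : Commute a r

theorem exists_path (C : Ctx D D1) {l : G} (hl : l ∈ D) : ∃ a s c r, Path D l a s c r := by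
  obtain ⟨f, hf, -⟩ := C.chart23 hl
  have hex : ∀ k : Fin 5, ∃ z ∈ Nb D l, f z = gT (k : ℕ) := fun k =>
    hf.lift _ (FischerUnique23.gen_nb (k : ℕ) (by omega)).1
  choose z hz hfz using hex
  obtain ⟨g, hg⟩ := C.prim.1 (z 0) (hz 0).1 l hl
  have hcm : ∀ i j : Fin 5, Commute (g * z i * g⁻¹) (g * z j * g⁻¹) ↔ Commute (gT (i : ℕ)) (gT (j : ℕ)) := fun i j => by
    rw [commute_conj_iff, ← hf.comm _ (hz i) _ (hz j), hfz, hfz]
  have hD : ∀ i : Fin 5, g * z i * g⁻¹ ∈ D := fun i => C.group.2.1 g _ (hz i).1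
  have hne : ∀ {i j : Fin 5}, (j : ℕ) < i → g * z i * g⁻¹ ≠ g * z j * g⁻¹ := fun {i j} h e =>
    gT_ne h i.2 (by rw [← hfz, ← hfz, mul_left_cancel (mul_right_cancel e)])
  have hnb : ∀ {i j : Fin 5}, (j : ℕ) < i → Commute (gT (j : ℕ)) (gT (i : ℕ)) →
      g * z i * g⁻¹ ∈ Nb D (g * z j * g⁻¹) := fun {i j} h hc => ⟨hD i, hne h, (hcm j i).2 hc⟩
  refine ⟨g * z 1 * g⁻¹, g * z 2 * g⁻¹, g * z 3 * g⁻¹, g * z 4 * g⁻¹, ?_⟩
  constructor
  · rw [← hg, hcm]; exact gT_far (i := 0) (by norm_num)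
  · rw [hcm]; exact gT_far (i := 1) (by norm_num)
  · rw [hcm]; exact gT_far (i := 2) (by norm_num)
  · rw [hcm]; exact gT_far (i := 3) (by norm_num)
  · exact hD 1
  · exact hD 3
  · have := hnb (i := 2) (j := 0) (by decide) (gT_comm (by simp))
    rwa [hg] at this
  · have h1 := hnb (i := 4) (j := 0) (by decide) (gT_comm (by simp))
    rw [hg] at h1
    exact ⟨h1, hnb (i := 4) (j := 2) (by decide) (gT_comm (by simp))⟩
  · rw [← hg, hcm]; exact gT_comm (by simp)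
  · rw [hcm]; exact gT_comm (by simp)
  · rw [hcm]; exact gT_comm (by simp)

theorem exists_cm : ∃ j : Fin 45, j ≠ 0 ∧ FischerQuad.Cm 0 j := by decide +kernel

/-- Three lists of four, pairwise commuting, with one product. -/
theorem exists_three_quads (V : FischerQuad.Env D) (hne : D.Nonempty) :
    ∃ (Q1 Q2 Q3 : List G) (z : G),
      (∀ Q ∈ [Q1, Q2, Q3], Q.length = 4 ∧ Q.prod = z ∧ z * z = 1) ∧
      ∀ P ∈ [Q1 ++ Q2, Q2 ++ Q3, Q1 ++ Q3], P.Nodup ∧ (∀ x ∈ P, x ∈ D) ∧ ∀ x ∈ P, ∀ y ∈ P, Commute x y := by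
  classical
  obtain ⟨d, hd, e, he⟩ := V.facts.exists_nb_pair hne
  obtain ⟨t, ht⟩ := V.facts.fac_exists hd he (m := 4) (by norm_num) (by norm_num)
  obtain ⟨l, hn, hlen, hlD, hlc, hlp⟩ := id ht
  match l, hlen with
  | [a, b, c, e], _ =>
    obtain ⟨π, R⟩ := V.exists_frame (a := a) (b := b) (c := c) (e := e) (z := t) ⟨hn, hlD, hlc, hlp⟩
    obtain ⟨y, L⟩ := V.exists_local R
    obtain ⟨j, hj0, hcm⟩ := exists_cm
    have hz2 : t * t = 1 := by rw [← hlp]; exact prod_sq V.facts.tg.1 _ hlD hlc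
    have hq : ∀ i : Fin 45, ([y i 3, y i 2, y i 1, y i 0]).prod = t ∧ ([y i 3, y i 2, y i 1, y i 0]).Nodup ∧
        (∀ u ∈ [y i 3, y i 2, y i 1, y i 0], ∀ v ∈ [y i 3, y i 2, y i 1, y i 0], Commute u v) := by
      intro i
      obtain ⟨p, q, r, w, hT, hset⟩ := L.quad V i
      have hnd : [y i 3, y i 2, y i 1, y i 0].Nodup := by
        have : Function.Injective (y i) := fun m n h => (L.inj h).2
        exact (List.nodup_map_iff this).2 (show [(3 : Fin 4), 2, 1, 0].Nodup by decide)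
      have hT' := hT.perm ((List.perm_ext_iff_of_nodup hT.1 hnd).2 fun x => by
        have := Set.ext_iff.1 hset x
        simpa [FischerQuad.blockSet] using this.symm)
      exact ⟨hT'.2.2.2, hT'.1, hT'.2.2.1⟩
    have hmemy : ∀ (i : Fin 45), ∀ u ∈ [y i 3, y i 2, y i 1, y i 0], ∃ m, y i m = u := fun i u hu => by
      simp only [List.mem_cons, List.not_mem_nil, or_false] at hu
      rcases hu with h | h | h | h <;> exact ⟨_, h.symm⟩
    have hDy : ∀ (i : Fin 45), ∀ u ∈ [y i 3, y i 2, y i 1, y i 0], u ∈ D := fun i u hu => by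
      obtain ⟨m, rfl⟩ := hmemy i u hu
      exact (L.mem i m).1.1
    have hbase : ∀ (i : Fin 45), ∀ u ∈ [y i 3, y i 2, y i 1, y i 0], ∀ v ∈ [a, b, c, e], u ≠ v ∧ Commute v u := by
      intro i u hu v hv
      obtain ⟨m, rfl⟩ := hmemy i u hu
      obtain ⟨h1, h2, h3, h4⟩ := L.mem i m
      simp only [List.mem_cons, List.not_mem_nil, or_false] at hv
      rcases hv with rfl | rfl | rfl | rfl
      exacts [⟨h1.2.1, h1.2.2⟩, ⟨h2.2.1, h2.2.2⟩, ⟨h3.2.1, h3.2.2⟩, ⟨h4.2.1, h4.2.2⟩]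
    have hij : ∀ u ∈ [y 0 3, y 0 2, y 0 1, y 0 0], ∀ v ∈ [y j 3, y j 2, y j 1, y j 0], u ≠ v ∧ Commute u v := by
      intro u hu v hv
      obtain ⟨m, rfl⟩ := hmemy 0 u hu
      obtain ⟨n, rfl⟩ := hmemy j v hv
      exact ⟨fun h => hj0 (L.inj h).1.symm,
        V.bcm (L.quad V 0) (L.quad V j) (FischerQuad.mem_blockSet y 0 0) (FischerQuad.mem_blockSet y j 0)
          ((L.cm_iff_commute V 0 j).1 hcm) _ (FischerQuad.mem_blockSet y 0 m) _ (FischerQuad.mem_blockSet y j n)⟩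
    have mk : ∀ A B : List G, A.Nodup → B.Nodup → (∀ x ∈ A, x ∈ D) → (∀ x ∈ B, x ∈ D) →
        (∀ x ∈ A, ∀ y ∈ A, Commute x y) → (∀ x ∈ B, ∀ y ∈ B, Commute x y) →
        (∀ x ∈ A, ∀ y ∈ B, x ≠ y ∧ Commute x y) →
        (A ++ B).Nodup ∧ (∀ x ∈ A ++ B, x ∈ D) ∧ ∀ x ∈ A ++ B, ∀ y ∈ A ++ B, Commute x y := by
      intro A B h1 h2 h3 h4 h5 h6 h7
      refine ⟨List.nodup_append.2 ⟨h1, h2, fun x hx y hy => (h7 x hx y hy).1⟩, fun x hx =>
        (List.mem_append.1 hx).elim (h3 x) (h4 x), fun x hx y hy => ?_⟩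
      rcases List.mem_append.1 hx with hx | hx <;> rcases List.mem_append.1 hy with hy | hy
      exacts [h5 x hx y hy, (h7 x hx y hy).2, (h7 y hy x hx).2.symm, h6 x hx y hy]
    refine ⟨[a, b, c, e], [y 0 3, y 0 2, y 0 1, y 0 0], [y j 3, y j 2, y j 1, y j 0], t, ?_, ?_⟩
    · intro Q hQ
      simp only [List.mem_cons, List.not_mem_nil, or_false] at hQ
      rcases hQ with rfl | rfl | rfl
      exacts [⟨rfl, hlp, hz2⟩, ⟨rfl, (hq 0).1, hz2⟩, ⟨rfl, (hq j).1, hz2⟩]
    · intro P hP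
      simp only [List.mem_cons, List.not_mem_nil, or_false] at hP
      rcases hP with rfl | rfl | rfl
      · exact mk _ _ hn (hq 0).2.1 hlD (hDy 0) hlc (hq 0).2.2
          fun x hx y' hy => ⟨(hbase 0 y' hy x hx).1.symm, (hbase 0 y' hy x hx).2⟩
      · exact mk _ _ (hq 0).2.1 (hq j).2.1 (hDy 0) (hDy j) (hq 0).2.2 (hq j).2.2 hij
      · exact mk _ _ hn (hq j).2.1 hlD (hDy j) hlc (hq j).2.2
          fun x hx y' hy => ⟨(hbase j y' hy x hx).1.symm, (hbase j y' hy x hx).2⟩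

end Cfsg.Agent.FischerMult24
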