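import Cfsg.Agent.Lib.FischerUnique24.Count

/-!
A lift of the commuting graph of a class of type M(24) along an extension: if the triangles close and the
squares through the base close modulo a normal subgroup, the kernel of the extension lies in that subgroup.
-/

set_option autoImplicit false
set_option linter.unusedSectionVars false
set_option maxRecDepth 100000

namespace Cfsg.Agent.FischerMult24

open Cfsg.Agent.Fischer
open Cfsg.Agent.Fischer.Factor
open Cfsg.Agent.FischerUnique24 (Ctx Com Hd)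

universe u v w

variable {G : Type u} [Group G] [Finite G] {X : Type v} [Group X] [Finite X] {Γ : Type w} [Group Γ]

/-- The image of the base under a lift. -/
def Pt (p : Γ →* G) (l : G) (γ : Γ) : G := p γ * l * (p γ)⁻¹

theorem pt_mul (p : Γ →* G) (l : G) (γ a : Γ) : Pt p l (γ * a) = p γ * Pt p l a * (p γ)⁻¹ := by
  rw [Pt, Pt, map_mul, mul_inv_rev]; group

/-- A stabiliser and the neighbours of the base in a lift of the graph. -/
structure Cover (p : Γ →* G) (D : Set G) (l : G) (H : Subgroup Γ) (A : Set Γ) : Prop where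
  inf : ∀ h ∈ H, p h = 1 → h = 1
  map : H.map p = Subgroup.centralizer ({l} : Set G)
  left : ∀ h ∈ H, ∀ a ∈ A, h * a ∈ A
  right : ∀ a ∈ A, ∀ h ∈ H, a * h ∈ A
  pt : ∀ a ∈ A, Pt p l a ∈ Nb D l
  exist : ∀ s ∈ Nb D l, ∃ a ∈ A, Pt p l a = s
  uniq : ∀ a ∈ A, ∀ b ∈ A, Pt p l a = Pt p l b → a⁻¹ * b ∈ H
  symm : ∀ a ∈ A, a⁻¹ ∈ A
  tri : ∀ a ∈ A, ∀ b ∈ A, Pt p l b ∈ Nb D (Pt p l a) → a⁻¹ * b ∈ A

/-- A lift of a far point through a common neighbour. -/
def IsVia (p : Γ →* G) (l : G) (A : Set Γ) (s e : G) (γ : Γ) : Prop :=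
  Pt p l γ = e ∧ ∃ a ∈ A, ∃ b ∈ A, Pt p l a = s ∧ γ = a * b

variable {D : Set G} {D1 : Set X} {p : Γ →* G} {l : G} {H : Subgroup Γ} {A : Set Γ}
  (C : Ctx D D1) (R : Cover p D l H A)

include R in
theorem Cover.cent {h : Γ} (hh : h ∈ H) : Commute (p h) l :=
  Subgroup.mem_centralizer_singleton_iff.1 (R.map ▸ Subgroup.mem_map_of_mem p hh)

include R in
theorem Cover.pt_right {h : Γ} (hh : h ∈ H) (γ : Γ) : Pt p l (γ * h) = Pt p l γ := by
  rw [pt_mul]
  show p γ * (p h * l * (p h)⁻¹) * (p γ)⁻¹ = _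
  rw [(R.cent hh).eq, mul_inv_cancel_right, Pt]

include C in
theorem pt_mem (hl : l ∈ D) (γ : Γ) : Pt p l γ ∈ D := C.group.2.1 _ l hl

include C in
theorem nb_iff (γ : Γ) {x : G} : p γ * x * (p γ)⁻¹ ∈ Nb D (Pt p l γ) ↔ x ∈ Nb D l := by
  refine ⟨fun h => ?_, fun h => nb_conj C.group (p γ) h⟩
  have := nb_conj C.group (p γ)⁻¹ h
  rwa [Pt, show (p γ)⁻¹ * (p γ * x * (p γ)⁻¹) * (p γ)⁻¹⁻¹ = x by group,
    show (p γ)⁻¹ * (p γ * l * (p γ)⁻¹) * (p γ)⁻¹⁻¹ = l by group] at this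

include C R in
theorem Cover.step_adj {γ : Γ} {a : Γ} (ha : a ∈ A) : Pt p l (γ * a) ∈ Nb D (Pt p l γ) := by
  rw [pt_mul]; exact (nb_iff C γ).2 (R.pt a ha)

include C R in
theorem Cover.exists_step {γ : Γ} {d : G} (h : d ∈ Nb D (Pt p l γ)) : ∃ a ∈ A, Pt p l (γ * a) = d := by
  obtain ⟨a, ha, e⟩ := R.exist ((p γ)⁻¹ * d * p γ) ((nb_iff C (p := p) (l := l) γ).1 (by
    rwa [show p γ * ((p γ)⁻¹ * d * p γ) * (p γ)⁻¹ = d by group]))
  exact ⟨a, ha, by rw [pt_mul, e]; group⟩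

include R in
theorem Cover.step_uniq {γ : Γ} {a b : Γ} (ha : a ∈ A) (hb : b ∈ A) (h : Pt p l (γ * a) = Pt p l (γ * b)) :
    a⁻¹ * b ∈ H := by
  refine R.uniq a ha b hb ?_
  rw [pt_mul, pt_mul] at h
  exact mul_left_cancel (mul_right_cancel h)

include C R in
theorem Cover.exists_via {s e : G} (hs : s ∈ Com D l e) (he : e ∈ D) : ∃ γ, IsVia p l A s e γ := by
  obtain ⟨a, ha, e1⟩ := R.exist s hs.1
  obtain ⟨b, hb, e2⟩ := R.exists_step C (γ := a) (d := e) (by rw [e1]; exact ⟨he, hs.2.2.1.symm, hs.2.2.2.symm⟩)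
  exact ⟨a * b, e2, a, ha, b, hb, e1, rfl⟩

include C in
theorem nb_conj_iff' (g : G) {a b : G} : g * a * g⁻¹ ∈ Nb D (g * b * g⁻¹) ↔ a ∈ Nb D b := by
  refine ⟨fun h => ?_, fun h => nb_conj C.group g h⟩
  have := nb_conj C.group g⁻¹ h
  rwa [show g⁻¹ * (g * a * g⁻¹) * g⁻¹⁻¹ = a by group, show g⁻¹ * (g * b * g⁻¹) * g⁻¹⁻¹ = b by group] at this

variable (M' : Subgroup Γ)

include C R in
/-- The kernel of the extension lies in the defect of the squares. -/
theorem Cover.kernel_le [M'.Normal] (hl : l ∈ D) (hker : M' ≤ p.ker)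
    (hsq : ∀ e ∈ D, ¬ Commute l e → ∀ s ∈ Com D l e, ∀ s' ∈ Com D l e, ∀ γ γ', IsVia p l A s e γ →
      IsVia p l A s' e γ' → γ⁻¹ * γ' ∈ M' ⊔ H) :
    Subgroup.closure ((H : Set Γ) ∪ A) ⊓ p.ker ≤ M' ∧ (Subgroup.closure ((H : Set Γ) ∪ A)).map p = ⊤ := by
  classical
  set K := M' ⊔ H with hK
  have hKset : ∀ k, k ∈ K ↔ ∃ m ∈ M', ∃ h ∈ H, m * h = k := fun k => Subgroup.mem_sup_of_normal_left
  -- a point in the lift over every member
  have ex : ∀ d, ∃ γ : Γ, d ∈ D → Pt p l γ = d ∧ (d = l → γ = 1) ∧ (d ∈ Nb D l → γ ∈ A) ∧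
      (¬ Commute l d → ∃ s ∈ Com D l d, IsVia p l A s d γ) := by
    intro d
    by_cases hd : d ∈ D
    · by_cases h1 : d = l
      · exact ⟨1, fun _ => ⟨by rw [Pt, map_one, h1]; group, fun _ => rfl, fun h => absurd h1 h.2.1,
          fun h => absurd (Commute.refl l) (h1 ▸ h)⟩⟩
      · by_cases h2 : Commute l d
        · obtain ⟨a, ha, e⟩ := R.exist d ⟨hd, h1, h2⟩
          exact ⟨a, fun _ => ⟨e, fun h => absurd h h1, fun _ => ha, fun h => absurd h2 h⟩⟩
        · obtain ⟨s, hs1, hs2⟩ := C.exists_common hl hd h2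
          obtain ⟨γ, hγ⟩ := R.exists_via C (s := s) ⟨hs1, hs2⟩ hd
          exact ⟨γ, fun _ => ⟨hγ.1, fun h => absurd h h1, fun h => absurd h.2.2 h2, fun _ => ⟨s, ⟨hs1, hs2⟩, hγ⟩⟩⟩
    · exact ⟨1, fun h => absurd h hd⟩
  choose σ hσ using ex
  have hσpt : ∀ d ∈ D, Pt p l (σ d) = d := fun d hd => (hσ d hd).1
  -- a lift through any common neighbour agrees with the chosen point
  have hvia : ∀ {s e : G} {γ : Γ}, e ∈ D → ¬ Commute l e → s ∈ Com D l e → IsVia p l A s e γ →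
      (σ e)⁻¹ * γ ∈ K := by
    intro s e γ he hne hs hγ
    obtain ⟨s₀, hs₀, h₀⟩ := (hσ e he).2.2.2 hne
    exact hsq e he hne s₀ hs₀ s hs _ _ h₀ hγ
  -- one step from a chosen point
  have key : ∀ d ∈ D, ∀ a ∈ A, (σ (Pt p l (σ d * a)))⁻¹ * (σ d * a) ∈ K := by
    intro d hd a ha
    have hadj : Pt p l (σ d * a) ∈ Nb D d := by
      have := R.step_adj C (γ := σ d) ha
      rwa [hσpt d hd] at this
    obtain ⟨d', hd'⟩ : ∃ d', Pt p l (σ d * a) = d' := ⟨_, rfl⟩
    rw [hd'] at hadj ⊢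
    obtain ⟨hσ', hone', hnb', hfar'⟩ := hσ d' hadj.1
    by_cases h1 : d = l
    · rw [(hσ d hd).2.1 h1, one_mul] at hd' ⊢
      exact Subgroup.mem_sup_right (R.uniq _ (hnb' (h1 ▸ hadj)) a ha (hσ'.trans hd'.symm))
    by_cases h2 : Commute l d
    · have hdA : σ d ∈ A := (hσ d hd).2.2.1 ⟨hd, h1, h2⟩
      by_cases h3 : d' = l
      · rw [hone' h3, inv_one, one_mul]
        refine Subgroup.mem_sup_right ?_
        have h := R.step_uniq (γ := σ d) (R.symm _ hdA) ha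
          (by rw [mul_inv_cancel, hd', h3, Pt, map_one]; group)
        rwa [inv_inv] at h
      by_cases h4 : Commute l d'
      · have hA' := R.tri _ hdA _ (hnb' ⟨hadj.1, h3, h4⟩) (by rw [hσpt d hd, hσ']; exact hadj)
        have h := R.step_uniq (γ := σ d) hA' ha (by rw [mul_inv_cancel_left, hσ', hd'])
        rw [mul_inv_rev, inv_inv, mul_assoc] at h
        exact Subgroup.mem_sup_right h
      · exact hvia hadj.1 h4 (s := d) ⟨⟨hd, h1, h2⟩, ⟨hd, hadj.2.1.symm, hadj.2.2.symm⟩⟩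
          ⟨hd', σ d, hdA, a, ha, hσpt d hd, rfl⟩
    -- the chosen point is far from the base
    have far : ∀ u, u ∈ Com D l d → ∀ x ∈ A, ∀ y ∈ A, Pt p l x = u → Pt p l (x * y) = d →
        ∃ a' ∈ A, ∃ k ∈ K, σ d * a = x * y * a' * k := by
      intro u hu x hx y hy hxu hxy
      obtain ⟨m, hm, h, hh, e⟩ := (hKset _).1 (hvia hd h2 hu ⟨hxy, x, hx, y, hy, hxu, rfl⟩)
      refine ⟨h⁻¹ * a, R.left _ (inv_mem hh) a ha, (h⁻¹ * a)⁻¹ * (h⁻¹ * m⁻¹ * h) * (h⁻¹ * a),
        Subgroup.mem_sup_left ?_, ?_⟩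
      · have k1 : h⁻¹ * m⁻¹ * h ∈ M' := by
          simpa using (inferInstance : M'.Normal).conj_mem _ (inv_mem hm) h⁻¹
        simpa [mul_assoc] using (inferInstance : M'.Normal).conj_mem _ k1 (h⁻¹ * a)⁻¹
      · have e' : x * y = σ d * (m * h) := by rw [e, mul_inv_cancel_left]
        rw [e']; group
    by_cases h3 : d' = l
    · exact absurd (h3 ▸ hadj.2.2.symm) h2
    by_cases h4 : Commute l d'
    · have hu : d' ∈ Com D l d := ⟨⟨hadj.1, h3, h4⟩, hadj⟩
      obtain ⟨γ, hγd, x, hx, y, hy, hxu, rfl⟩ := R.exists_via C hu hd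
      obtain ⟨a', ha', k, hk, e⟩ := far d' hu x hx y hy hxu hγd
      rw [e]
      have hpt : Pt p l (x * y * a') = d' := by
        obtain ⟨m, hm, h, hh, ek⟩ := (hKset k).1 hk
        have : Pt p l (x * y * a' * k) = Pt p l (x * y * a') := by
          rw [← ek, ← mul_assoc, R.pt_right hh, pt_mul, Pt, MonoidHom.mem_ker.1 (hker hm)]
          show p (x * y * a') * (1 * l * 1⁻¹) * (p (x * y * a'))⁻¹ = Pt p l (x * y * a')
          rw [one_mul, inv_one, mul_one]; rfl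
        rw [← this, ← e, hd']
      have h5 := R.step_uniq (γ := x * y) (R.symm y hy) ha' (by rw [mul_inv_cancel_right, hxu, hpt])
      have h6 := R.uniq _ (hnb' ⟨hadj.1, h3, h4⟩) x hx (hσ'.trans hxu.symm)
      rw [show (σ d')⁻¹ * (x * y * a' * k) = ((σ d')⁻¹ * x) * (y⁻¹⁻¹ * a') * k by group]
      exact mul_mem (Subgroup.mem_sup_right (mul_mem h6 h5)) hk
    · obtain ⟨u, hu, huz⟩ := C.exists_com_nb (a := d) (b := l) (z := d') (fun h => h2 h.symm) hd hl hadj
      have huc : u ∈ Com D l d := ⟨hu.2, hu.1⟩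
      have huc' : u ∈ Com D l d' := ⟨hu.2, huz⟩
      obtain ⟨γ, hγd, x, hx, y, hy, hxu, rfl⟩ := R.exists_via C huc hd
      obtain ⟨y', hy', hxy'⟩ := R.exists_step C (γ := x) (d := d')
        (by rw [hxu]; exact ⟨hadj.1, huz.2.1.symm, huz.2.2.symm⟩)
      obtain ⟨a', ha', k, hk, e⟩ := far u huc x hx y hy hxu hγd
      rw [e]
      have hpt : Pt p l (x * y * a') = d' := by
        obtain ⟨m, hm, h, hh, ek⟩ := (hKset k).1 hk
        have : Pt p l (x * y * a' * k) = Pt p l (x * y * a') := by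
          rw [← ek, ← mul_assoc, R.pt_right hh, pt_mul, Pt, MonoidHom.mem_ker.1 (hker hm)]
          show p (x * y * a') * (1 * l * 1⁻¹) * (p (x * y * a'))⁻¹ = Pt p l (x * y * a')
          rw [one_mul, inv_one, mul_one]; rfl
        rw [← this, ← e, hd']
      have hadj' : Pt p l (x * y') ∈ Nb D (Pt p l (x * y)) := by rw [hxy', hγd]; exact hadj
      have htri := R.tri y hy y' hy' ((nb_conj_iff' C (p x)).1 (by rw [← pt_mul, ← pt_mul]; exact hadj'))
      have h5 := R.step_uniq (γ := x * y) htri ha' (by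
        rw [show x * y * (y⁻¹ * y') = x * y' by group, hxy', hpt])
      have h6 := hvia hadj.1 h4 huc' ⟨hxy', x, hx, y', hy', hxu, rfl⟩
      rw [show (σ d')⁻¹ * (x * y * a' * k) = ((σ d')⁻¹ * (x * y')) * ((y⁻¹ * y')⁻¹ * a') * k by group]
      exact mul_mem (mul_mem h6 (Subgroup.mem_sup_right h5)) hk
  -- every product lies over a chosen point
  have good : ∀ γ ∈ Subgroup.closure ((H : Set Γ) ∪ A), (σ (Pt p l γ))⁻¹ * γ ∈ K := by
    intro γ hγ
    have step : ∀ γ g, (σ (Pt p l γ))⁻¹ * γ ∈ K → g ∈ (H : Set Γ) ∪ A → (σ (Pt p l (γ * g)))⁻¹ * (γ * g) ∈ K := by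
      intro γ g hk hg
      rcases hg with hg | hg
      · rw [R.pt_right hg, ← mul_assoc]
        exact mul_mem hk (Subgroup.mem_sup_right hg)
      · obtain ⟨m, hm, h, hh, e⟩ := (hKset _).1 hk
        set d := Pt p l γ with hd
        have hdD : d ∈ D := pt_mem C hl γ
        have e' : γ = σ d * (m * h) := by rw [e, mul_inv_cancel_left]
        have hk2 := key d hdD (h * g) (R.left h hh g hg)
        have hm' : (h * g)⁻¹ * m * (h * g) ∈ M' := by
          simpa [mul_assoc] using (inferInstance : M'.Normal).conj_mem m hm (h * g)⁻¹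
        have e2 : γ * g = σ d * (h * g) * ((h * g)⁻¹ * m * (h * g)) := by rw [e']; group
        have e3 : Pt p l (γ * g) = Pt p l (σ d * (h * g)) := by
          rw [e2, pt_mul, Pt, MonoidHom.mem_ker.1 (hker hm'), one_mul, inv_one, mul_one]; rfl
        rw [e3, e2, ← mul_assoc]
        exact mul_mem hk2 (Subgroup.mem_sup_left hm')
    induction hγ using Subgroup.closure_induction_right with
    | one =>
      have h1 : Pt p l (1 : Γ) = l := by rw [Pt, map_one]; group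
      rw [h1, (hσ l hl).2.1 rfl, inv_one, one_mul]
      exact one_mem _
    | mul_right γ _ g hg ih => exact step γ g ih hg
    | mul_inv_cancel γ _ g hg ih =>
      exact step γ g⁻¹ ih (hg.imp (fun h => inv_mem h) (fun h => R.symm g h))
  set W := Subgroup.closure ((H : Set Γ) ∪ A)
  have hAW : ∀ a ∈ A, a ∈ W := fun a ha => Subgroup.subset_closure (Or.inr ha)
  have hHW : ∀ h ∈ H, h ∈ W := fun h hh => Subgroup.subset_closure (Or.inl hh)
  refine ⟨fun γ hγ => ?_, ?_⟩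
  · obtain ⟨hγW, hγM⟩ := Subgroup.mem_inf.1 hγ
    have h := good γ hγW
    have hpt : Pt p l γ = l := by rw [Pt, MonoidHom.mem_ker.1 hγM]; group
    rw [hpt, (hσ l hl).2.1 rfl, inv_one, one_mul, hKset] at h
    obtain ⟨m, hm, h', hh', rfl⟩ := h
    have : p h' = 1 := by
      rw [MonoidHom.mem_ker, map_mul, MonoidHom.mem_ker.1 (hker hm), one_mul] at hγM
      exact hγM
    rw [R.inf h' hh' this, mul_one]
    exact hm
  · refine eq_top_iff.2 fun g _ => ?_
    have hσW : ∀ d ∈ D, σ d ∈ W := by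
      intro d hd
      by_cases h1 : d = l
      · rw [(hσ d hd).2.1 h1]; exact one_mem _
      by_cases h2 : Commute l d
      · exact hAW _ ((hσ d hd).2.2.1 ⟨hd, h1, h2⟩)
      obtain ⟨s, -, -, a, ha, b, hb, -, e⟩ := (hσ d hd).2.2.2 h2
      rw [e]; exact mul_mem (hAW a ha) (hAW b hb)
    have hd : g * l * g⁻¹ ∈ D := C.group.2.1 g l hl
    have e := hσpt _ hd
    have hc : (p (σ (g * l * g⁻¹)))⁻¹ * g ∈ Subgroup.centralizer ({l} : Set G) := by
      refine Subgroup.mem_centralizer_singleton_iff.2 ?_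
      rw [Pt] at e
      set q := p (σ (g * l * g⁻¹))
      calc q⁻¹ * g * l = q⁻¹ * (g * l * g⁻¹) * g := by group
        _ = q⁻¹ * (q * l * q⁻¹) * g := by rw [e]
        _ = l * (q⁻¹ * g) := by group
    rw [← R.map] at hc
    obtain ⟨h, hh, he⟩ := hc
    exact ⟨σ (g * l * g⁻¹) * h, mul_mem (hσW _ hd) (hHW h hh), by rw [map_mul, he, mul_inv_cancel_left]⟩

end Cfsg.Agent.FischerMult24
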