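import Cfsg.Agent.Lib.FischerMult24.Cover

/-!
Extensions of a group by a kernel that is central over the commutator subgroup and lies in its derived subgroup.
-/

set_option autoImplicit false
set_option linter.unusedSectionVars false

namespace Cfsg.Agent.FischerMult24

open scoped commutatorElement

universe u w

variable {G : Type u} [Group G] {Γ : Type w} [Group Γ]

/-- An extension with a chosen involution over a transposition. -/
structure Stem (p : Γ →* G) (l : G) (t : Γ) : Prop where
  surj : Function.Surjective p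
  sq : t * t = 1
  base : p t = l
  central : ∀ m ∈ p.ker, ∀ x, p x ∈ commutator G → Commute m x
  stem : p.ker ≤ ⁅(commutator G).comap p, (commutator G).comap p⁆

variable {p : Γ →* G} {l : G} {t : Γ} (S : Stem p l t)
include S

theorem Stem.comm_ker {m m' : Γ} (hm : m ∈ p.ker) (hm' : m' ∈ p.ker) : Commute m m' :=
  S.central m hm m' (by rw [MonoidHom.mem_ker.1 hm']; exact one_mem _)

/-- A subgroup covering the group contains the kernel. -/
theorem Stem.ker_le {W : Subgroup Γ} (h : W.map p = ⊤) : p.ker ≤ W := by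
  refine S.stem.trans (Subgroup.commutator_le.2 fun x hx y hy => ?_)
  have split : ∀ z : Γ, ∃ w ∈ W, ∃ m ∈ p.ker, z = w * m := fun z => by
    obtain ⟨w, hw, e⟩ := (h.ge (Subgroup.mem_top (p z)) : p z ∈ W.map p)
    exact ⟨w, hw, w⁻¹ * z, by rw [MonoidHom.mem_ker, map_mul, map_inv, e, inv_mul_cancel], (mul_inv_cancel_left _ _).symm⟩
  obtain ⟨a, ha, m, hm, rfl⟩ := split x
  obtain ⟨b, hb, n, hn, rfl⟩ := split y
  have ha' : p a ∈ commutator G := by
    rw [Subgroup.mem_comap, map_mul, MonoidHom.mem_ker.1 hm, mul_one] at hx; exact hx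
  have hb' : p b ∈ commutator G := by
    rw [Subgroup.mem_comap, map_mul, MonoidHom.mem_ker.1 hn, mul_one] at hy; exact hy
  have ma := S.central m hm a ha'
  have mb := S.central m hm b hb'
  have na := S.central n hn a ha'
  have mn := S.comm_ker hm hn
  have key : ⁅a * m, b * n⁆ = ⁅a, b⁆ := by
    rw [commutatorElement_def, commutatorElement_def, mul_inv_rev, mul_inv_rev]
    calc a * m * (b * n) * (m⁻¹ * a⁻¹) * (n⁻¹ * b⁻¹) = a * ((m * (b * n)) * m⁻¹) * a⁻¹ * (n⁻¹ * b⁻¹) := by group
      _ = a * (b * n) * a⁻¹ * (n⁻¹ * b⁻¹) := by rw [(mb.mul_right mn).eq, mul_inv_cancel_right]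
      _ = a * b * (n * a⁻¹) * n⁻¹ * b⁻¹ := by group
      _ = a * b * a⁻¹ * b⁻¹ := by rw [na.inv_right.eq]; group
  rw [key, commutatorElement_def]
  exact mul_mem (mul_mem (mul_mem ha hb) (inv_mem ha)) (inv_mem hb)

end Cfsg.Agent.FischerMult24
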