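import Cfsg.Agent.Lib.FischerMult24.Ext
import Cfsg.Agent.Lib.FischerUnique24.Pair
import Cfsg.Agent.Lib.FischerUnique24.SymmetricFacts

/-!
An odd kernel inverted by a transposition has order dividing three.
-/

set_option autoImplicit false
set_option linter.unusedSectionVars false
set_option linter.style.haveILetI false
set_option maxRecDepth 100000

namespace Cfsg.Agent.FischerMult24

open Cfsg.Agent.Fischer
open Cfsg.Agent.Fischer.Factor
open Cfsg.Agent.FischerUnique24 (Ctx Com)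

universe u v w

variable {G : Type u} [Group G] [Finite G] {X : Type v} [Group X] [Finite X] {D : Set G} {D1 : Set X}

/-- A non-commuting pair through a given member whose common neighbours generate triality over a simple group. -/
theorem exists_triality (C : Ctx D D1) (h24 : Cfsg.IsOfTypeM24 G D) {l : G} (hl : l ∈ D) :
    ∃ e ∈ D, ¬ Commute l e ∧ ∃ N : Subgroup G, N ≤ Subgroup.closure (Com D l e) ∧ IsSimpleGroup N ∧
      Nat.card N = 4952179814400 ∧ Nat.card (Subgroup.closure (Com D l e)) = 6 * Nat.card N := by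
  obtain ⟨-, d, hd, c, hc, hdc, -, N, _, ⟨iN⟩, ⟨iQ⟩⟩ := h24
  obtain ⟨g, hg⟩ := C.prim.1 d hd l hl
  have hzc := C.center_pair hdc hd hc
  unfold Com at hzc
  set R₀ := Subgroup.closure (Nb D d ∩ Nb D c) with hR₀
  haveI : (Subgroup.center R₀).Normal := inferInstance
  let q : R₀ ≃* R₀ ⧸ Subgroup.center R₀ := MulEquiv.ofBijective (QuotientGroup.mk' (Subgroup.center R₀))
    ⟨(MonoidHom.ker_eq_bot_iff _).1 ((QuotientGroup.ker_mk' _).trans hzc), QuotientGroup.mk'_surjective _⟩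
  let emb : N →* G := ((MulAut.conj g).toMonoidHom.comp R₀.subtype).comp (q.symm.toMonoidHom.comp N.subtype)
  have hinj : Function.Injective emb := fun x y h => Subtype.ext (q.symm.injective
    (Subtype.ext ((MulAut.conj g).injective h)))
  have hcom : Com D l (g * c * g⁻¹) = MulAut.conj g '' (Nb D d ∩ Nb D c) := by
    ext y
    constructor
    · rintro ⟨h1, h2⟩
      refine ⟨g⁻¹ * y * g, ⟨?_, ?_⟩, by simp [mul_assoc]⟩
      · have := nb_conj C.group g⁻¹ h1
        rwa [← hg, inv_inv, show g⁻¹ * (g * d * g⁻¹) * g = d by group] at this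
      · have := nb_conj C.group g⁻¹ h2
        rwa [inv_inv, show g⁻¹ * (g * c * g⁻¹) * g = c by group] at this
    · rintro ⟨x, ⟨h1, h2⟩, rfl⟩
      exact ⟨hg ▸ nb_conj C.group g h1, nb_conj C.group g h2⟩
  have hmap : Subgroup.closure (Com D l (g * c * g⁻¹)) = R₀.map (MulAut.conj g).toMonoidHom := by
    rw [hcom, hR₀, MonoidHom.map_closure]; rfl
  haveI := FischerUnique24.pomega_plus_simple
  haveI : IsSimpleGroup N := iN.isSimpleGroup
  have hcardN : Nat.card emb.range = 4952179814400 := by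
    rw [Nat.card_congr (MonoidHom.ofInjective hinj).toEquiv.symm, Nat.card_congr iN.toEquiv,
      FischerUnique24.pomega_plus_card]
  refine ⟨g * c * g⁻¹, C.group.2.1 g c hc, fun h => hdc ?_, emb.range, ?_, ?_, hcardN, ?_⟩
  · rw [← hg] at h; exact (commute_conj_iff g d c).1 h
  · rw [hmap]
    rintro _ ⟨x, rfl⟩
    exact ⟨_, (q.symm (N.subtype x)).2, rfl⟩
  · exact (MonoidHom.ofInjective hinj).symm.isSimpleGroup
  · rw [hcardN, hmap, Subgroup.card_map_of_injective (f := (MulAut.conj g).toMonoidHom) (MulAut.conj g).injective]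
    refine ((Nat.card_congr q.toEquiv).trans (Subgroup.card_eq_card_quotient_mul_card_subgroup N)).trans ?_
    rw [Nat.card_congr iQ.toEquiv, Nat.card_congr iN.toEquiv, FischerUnique24.pomega_plus_card, Nat.card_perm,
      Nat.card_fin]
    rfl

variable {Γ : Type w} [Group Γ] [Finite Γ] {p : Γ →* G} {l : G} {t : Γ} (S : Stem p l t)
  (hinv : ∀ m ∈ p.ker, t * m * t⁻¹ = m⁻¹) (hodd : Odd (Nat.card p.ker))
include S hodd

theorem Stem.exists_sqrt {m : Γ} (hm : m ∈ p.ker) : ∃ n ∈ Subgroup.zpowers m, n * n = m := by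
  obtain ⟨j, hj⟩ := hodd
  refine ⟨m ^ (j + 1), Subgroup.npow_mem_zpowers m (j + 1), ?_⟩
  have h : m ^ Nat.card p.ker = 1 := congrArg Subtype.val (pow_card_eq_one' (x := (⟨m, hm⟩ : p.ker)))
  rw [← pow_add, show j + 1 + (j + 1) = (2 * j + 1) + 1 by ring, pow_succ, ← hj, h, one_mul]

theorem Stem.eq_one_of_sq {m : Γ} (hm : m ∈ p.ker) (h : m * m = 1) : m = 1 := by
  obtain ⟨j, hj⟩ := hodd
  have h' : m ^ Nat.card p.ker = 1 := congrArg Subtype.val (pow_card_eq_one' (x := (⟨m, hm⟩ : p.ker)))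
  rwa [hj, pow_succ, pow_mul, pow_two, h, one_pow, one_mul] at h'

variable (C : Ctx D D1) (hl : l ∈ D) (hout : ∀ d ∈ D, d ∉ commutator G) (hidx : (commutator G).index = 2)
include hinv hl hout hidx

theorem Stem.odd_conj {x m : Γ} (hm : m ∈ p.ker) (hx : p x ∉ commutator G) : x * m * x⁻¹ = m⁻¹ := by
  have hxt : p (x * t⁻¹) ∈ commutator G := by
    rw [map_mul, map_inv, S.base, Subgroup.mul_mem_iff_of_index_two hidx, inv_mem_iff]
    exact iff_of_false hx (hout l hl)
  have hc := S.central (m⁻¹) (inv_mem hm) _ hxt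
  calc x * m * x⁻¹ = (x * t⁻¹) * (t * m * t⁻¹) * (x * t⁻¹)⁻¹ := by group
    _ = (x * t⁻¹) * m⁻¹ * (x * t⁻¹)⁻¹ := by rw [hinv m hm]
    _ = m⁻¹ := by rw [← hc.eq, mul_inv_cancel_right]

omit hodd in
theorem Stem.shift {x n : Γ} (hn : n ∈ p.ker) (hx : x * n * x⁻¹ = n⁻¹) : n * x * n⁻¹ = x * (n * n)⁻¹ := by
  have h : x⁻¹ * n * x = n⁻¹ := by
    calc x⁻¹ * n * x = x⁻¹ * (x * n * x⁻¹)⁻¹ * x := by rw [hx, inv_inv]
      _ = n⁻¹ := by group
  calc n * x * n⁻¹ = x * (x⁻¹ * n * x) * n⁻¹ := by group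
    _ = x * (n * n)⁻¹ := by rw [h, mul_inv_rev, mul_assoc]

include C in
theorem Stem.inverted_cover : Cover p D l (Subgroup.centralizer ({t} : Set Γ))
    {γ | Commute (γ * t * γ⁻¹) t ∧ Pt p l γ ∈ Nb D l} := by
  set H := Subgroup.centralizer ({t} : Set Γ) with hH
  have hmem : ∀ {h : Γ}, h ∈ H ↔ Commute h t := fun {h} => Subgroup.mem_centralizer_singleton_iff
  have hinf : ∀ h ∈ H, p h = 1 → h = 1 := fun h hh h1 => by
    have e := hinv h h1
    rw [← (hmem.1 hh).eq, mul_inv_cancel_right] at e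
    exact S.eq_one_of_sq hodd h1 (mul_eq_one_iff_eq_inv.2 e)
  have hpx : ∀ γ, p (γ * t * γ⁻¹) = Pt p l γ := fun γ => by rw [map_mul, map_mul, map_inv, S.base]; rfl
  have hmap : H.map p = Subgroup.centralizer ({l} : Set G) := by
    refine le_antisymm ?_ fun g hg => ?_
    · rintro _ ⟨h, hh, rfl⟩
      exact Subgroup.mem_centralizer_singleton_iff.2 (S.base ▸ ((hmem.1 hh).map p).eq)
    · obtain ⟨γ, rfl⟩ := S.surj g
      have hm : (γ * t * γ⁻¹)⁻¹ * t ∈ p.ker := by
        rw [MonoidHom.mem_ker, map_mul, map_inv, hpx, S.base, Pt, Subgroup.mem_centralizer_singleton_iff.1 hg,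
          mul_inv_cancel_right, inv_mul_cancel]
      obtain ⟨n, hn, e⟩ := S.exists_sqrt hodd (inv_mem hm)
      have hnk : n ∈ p.ker := (Subgroup.zpowers_le.2 (inv_mem hm)) hn
      have hodx : p (γ * t * γ⁻¹) ∉ commutator G := by rw [hpx]; exact hout _ (C.group.2.1 _ l hl)
      refine ⟨n * γ, hmem.2 (mul_inv_eq_iff_eq_mul.1 ?_), by rw [map_mul, MonoidHom.mem_ker.1 hnk, one_mul]⟩
      rw [show n * γ * t * (n * γ)⁻¹ = n * (γ * t * γ⁻¹) * n⁻¹ by group,
        S.shift hinv hl hout hidx hnk (S.odd_conj hinv hodd hl hout hidx hnk hodx), e, inv_inv,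
        mul_inv_cancel_left]
  refine ⟨hinf, hmap, ?_, ?_, fun a ha => ha.2, ?_, ?_, ?_, ?_⟩
  · rintro h hh a ⟨ha, hp⟩
    refine ⟨?_, ?_⟩
    · rw [show h * a * t * (h * a)⁻¹ = h * (a * t * a⁻¹) * h⁻¹ by group]
      have := (commute_conj_iff h (a * t * a⁻¹) t).2 ha
      rwa [(hmem.1 hh).eq, mul_inv_cancel_right] at this
    · rw [pt_mul]
      have e : p h * l * (p h)⁻¹ = l := by
        rw [← S.base, ← map_inv, ← map_mul, ← map_mul, (hmem.1 hh).eq, mul_inv_cancel_right]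
      have := nb_conj C.group (p h) hp
      rwa [e] at this
  · rintro a ⟨ha, hp⟩ h hh
    have e : a * h * t * (a * h)⁻¹ = a * t * a⁻¹ := by
      rw [show a * h * t * (a * h)⁻¹ = a * (h * t * h⁻¹) * a⁻¹ by group, (hmem.1 hh).eq, mul_inv_cancel_right]
    refine ⟨e ▸ ha, ?_⟩
    rw [← hpx, e, hpx]; exact hp
  · intro s hs
    obtain ⟨h, hh, e⟩ : s ∈ H.map p := hmap ▸ Subgroup.mem_centralizer_singleton_iff.2 hs.2.2.symm.eq
    obtain ⟨g, hg⟩ := C.prim.1 l hl s hs.1
    obtain ⟨γ, rfl⟩ := S.surj g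
    have hm : (γ * t * γ⁻¹)⁻¹ * h ∈ p.ker := by
      rw [MonoidHom.mem_ker, map_mul, map_inv, hpx, e, Pt, hg, inv_mul_cancel]
    obtain ⟨n, hn, e'⟩ := S.exists_sqrt hodd (inv_mem hm)
    have hnk : n ∈ p.ker := (Subgroup.zpowers_le.2 (inv_mem hm)) hn
    have hodx : p (γ * t * γ⁻¹) ∉ commutator G := by rw [hpx]; exact hout _ (C.group.2.1 _ l hl)
    have hx : n * γ * t * (n * γ)⁻¹ = h := by
      rw [show n * γ * t * (n * γ)⁻¹ = n * (γ * t * γ⁻¹) * n⁻¹ by group,
        S.shift hinv hl hout hidx hnk (S.odd_conj hinv hodd hl hout hidx hnk hodx), e', inv_inv,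
        mul_inv_cancel_left]
    have hpt : Pt p l (n * γ) = s := by rw [← hpx, hx, e]
    exact ⟨n * γ, ⟨by rw [hx]; exact hmem.1 hh, hpt ▸ hs⟩, hpt⟩
  · rintro a ⟨ha, hp⟩ b ⟨hb, hp'⟩ he
    have h1 := hinf ((a * t * a⁻¹)⁻¹ * (b * t * b⁻¹)) (mul_mem (inv_mem (hmem.2 ha)) (hmem.2 hb))
      (by rw [map_mul, map_inv, hpx, hpx, he, inv_mul_cancel])
    refine hmem.2 (mul_inv_eq_iff_eq_mul.1 ?_)
    rw [show a⁻¹ * b * t * (a⁻¹ * b)⁻¹ = a⁻¹ * (b * t * b⁻¹) * a by group, (inv_mul_eq_one.1 h1).symm]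
    group
  · rintro a ⟨ha, hp⟩
    refine ⟨?_, ?_⟩
    · have := (commute_conj_iff a⁻¹ (a * t * a⁻¹) t).2 ha
      rw [inv_inv, show a⁻¹ * (a * t * a⁻¹) * a = t by group] at this
      rw [inv_inv]
      exact this.symm
    · have := nb_conj C.group (p a)⁻¹ (show l ∈ Nb D (Pt p l a) from ⟨hl, hp.2.1.symm, hp.2.2.symm⟩)
      rw [inv_inv, Pt, show (p a)⁻¹ * (p a * l * (p a)⁻¹) * p a = l by group] at this
      rw [Pt, map_inv, inv_inv]
      exact this
  · rintro a ⟨ha, hp⟩ b ⟨hb, hp'⟩ hab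
    have hc : Commute (a * t * a⁻¹) (b * t * b⁻¹) := by
      have hx := hmem.2 ha
      have hy := hmem.2 hb
      refine mul_inv_eq_iff_eq_mul.1 (mul_inv_eq_one.1 (hinf _ (mul_mem (mul_mem (mul_mem hx hy) (inv_mem hx)) (inv_mem hy)) ?_))
      rw [map_mul, map_mul, map_mul, map_inv, map_inv, hpx, hpx, hab.2.2.eq]
      group
    refine ⟨?_, ?_⟩
    · have := (commute_conj_iff a⁻¹ (a * t * a⁻¹) (b * t * b⁻¹)).2 hc
      rw [inv_inv, show a⁻¹ * (a * t * a⁻¹) * a = t by group] at this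
      rw [show a⁻¹ * b * t * (a⁻¹ * b)⁻¹ = a⁻¹ * (b * t * b⁻¹) * a by group]
      exact this.symm
    · have := nb_conj C.group (p a)⁻¹ hab
      rw [inv_inv, Pt, Pt, show (p a)⁻¹ * (p a * l * (p a)⁻¹) * p a = l by group] at this
      rw [pt_mul, map_inv, inv_inv]
      exact this

include C in
/-- The kernel has order dividing three. -/
theorem Stem.card_dvd_three (h24 : Cfsg.IsOfTypeM24 G D) : Nat.card p.ker ∣ 3 := by
  classical
  set H := Subgroup.centralizer ({t} : Set Γ) with hH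
  set A := {γ : Γ | Commute (γ * t * γ⁻¹) t ∧ Pt p l γ ∈ Nb D l} with hA
  have R : Cover p D l H A := S.inverted_cover hinv hodd C hl hout hidx
  obtain ⟨e₀, he₀, hle₀, N, hNR, hNs, hNc, hRc⟩ := exists_triality C h24 hl
  set R₀ := Subgroup.closure (Com D l e₀) with hR₀
  set P := R₀ ⊓ commutator G with hP
  have hR₀l : R₀ ≤ Subgroup.centralizer ({l} : Set G) := (Subgroup.closure_le _).2 fun y hy =>
    Subgroup.mem_centralizer_singleton_iff.2 hy.1.2.2.symm.eq
  have hR₀e : R₀ ≤ Subgroup.centralizer ({e₀} : Set G) := (Subgroup.closure_le _).2 fun y hy =>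
    Subgroup.mem_centralizer_singleton_iff.2 hy.2.2.2.symm.eq
  obtain ⟨x₀, hx₀⟩ := S.surj e₀
  have lift : ∀ r : P, ∃ h, h ∈ H ∧ p h = r := fun r => by
    obtain ⟨h, hh, e⟩ : (r : G) ∈ H.map p := R.map ▸ hR₀l r.2.1
    exact ⟨h, hh, e⟩
  choose rh hrh hprh using lift
  have hc : ∀ r : P, x₀⁻¹ * (rh r * x₀ * (rh r)⁻¹) ∈ p.ker := fun r => by
    rw [MonoidHom.mem_ker, map_mul, map_inv, map_mul, map_mul, map_inv, hprh, hx₀,
      Subgroup.mem_centralizer_singleton_iff.1 (hR₀e r.2.1), mul_inv_cancel_right, inv_mul_cancel]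
  let c : P →* p.ker := MonoidHom.mk' (fun r => ⟨_, hc r⟩) fun a b => Subtype.ext (by
    have e : rh (a * b) = rh a * rh b := by
      refine (inv_mul_eq_one.1 (R.inf _ (mul_mem (inv_mem (hrh (a * b))) (mul_mem (hrh a) (hrh b))) ?_))
      rw [map_mul, map_inv, map_mul, hprh, hprh, hprh, Subgroup.coe_mul, inv_mul_cancel]
    have ha : Commute (x₀⁻¹ * (rh b * x₀ * (rh b)⁻¹)) (rh a)⁻¹ :=
      (S.central _ (hc b) (rh a) (by rw [hprh]; exact a.2.2)).inv_right
    show x₀⁻¹ * (rh (a * b) * x₀ * (rh (a * b))⁻¹) = _ * _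
    calc x₀⁻¹ * (rh (a * b) * x₀ * (rh (a * b))⁻¹)
        = x₀⁻¹ * rh a * x₀ * ((x₀⁻¹ * (rh b * x₀ * (rh b)⁻¹)) * (rh a)⁻¹) := by rw [e]; group
      _ = x₀⁻¹ * rh a * x₀ * ((rh a)⁻¹ * (x₀⁻¹ * (rh b * x₀ * (rh b)⁻¹))) := by rw [ha.eq]
      _ = _ := by group)
  -- the simple group acts trivially
  have hNL : N ≤ commutator G := by
    have hd : Nat.card N ≠ 0 := by rw [hNc]; norm_num
    rcases (inferInstance : ((commutator G).subgroupOf N).Normal).eq_bot_or_eq_top with h | h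
    · exfalso
      have h2 : (commutator G).relIndex N = Nat.card N := by rw [Subgroup.relIndex, h, Subgroup.index_bot]
      have h3 := Subgroup.relIndex_dvd_index_of_normal (commutator G) N
      rw [h2, hidx, hNc] at h3
      norm_num at h3
    · exact Subgroup.subgroupOf_eq_top.1 h
  have hNP : N ≤ P := le_inf hNR hNL
  have hNker : N.subgroupOf P ≤ c.ker := by
    haveI := hNs
    let cN : N →* p.ker := c.comp (Subgroup.inclusion hNP)
    rcases (inferInstance : cN.ker.Normal).eq_bot_or_eq_top with h | h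
    · exfalso
      have hcomm : ∀ a b : N, a * b = b * a := fun a b => (MonoidHom.ker_eq_bot_iff cN).1 h (by
        rw [map_mul, map_mul]
        exact Subtype.ext (S.comm_ker (cN a).2 (cN b).2).eq)
      letI : CommGroup N := { (inferInstance : Group N) with mul_comm := hcomm }
      have := IsSimpleGroup.prime_card (α := N)
      rw [hNc] at this
      norm_num at this
    · intro x hx
      have : (⟨(x : G), hx⟩ : N) ∈ cN.ker := h ▸ Subgroup.mem_top _
      exact this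
  have hPR : 2 * Nat.card P = Nat.card R₀ := by
    obtain ⟨s, hs1, hs2⟩ := C.exists_common hl he₀ hle₀
    have hrel : (commutator G).relIndex R₀ = 2 := by
      rcases (Nat.dvd_prime Nat.prime_two).1 (hidx ▸ Subgroup.relIndex_dvd_index_of_normal (commutator G) R₀ :
        (commutator G).relIndex R₀ ∣ 2) with h | h
      · exact absurd (Subgroup.relIndex_eq_one.1 h (Subgroup.subset_closure ⟨hs1, hs2⟩)) (hout s hs1.1)
      · exact h
    have h := ((commutator G).subgroupOf R₀).card_mul_index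
    rw [← Subgroup.relIndex, hrel, ← Subgroup.card_map_of_injective R₀.subtype_injective,
      Subgroup.subgroupOf_map_subtype, inf_comm] at h
    rw [mul_comm]; exact h
  have hrange : Nat.card c.range ∣ 3 := by
    have h1 : (N.subgroupOf P).index = 3 := by
      have h := (N.subgroupOf P).card_mul_index
      rw [Nat.card_congr (Subgroup.subgroupOfEquivOfLe hNP).toEquiv, hNc] at h
      rw [hRc, hNc] at hPR
      omega
    rw [← h1, ← Subgroup.index_ker]
    exact Subgroup.index_dvd_of_le hNker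
  set M' := c.range.map p.ker.subtype with hM'
  have hM'le : M' ≤ p.ker := by rintro _ ⟨m, -, rfl⟩; exact m.2
  have hM'n : M'.Normal := ⟨fun m hm g => by
    by_cases hg : p g ∈ commutator G
    · rwa [← (S.central m (hM'le hm) g hg).eq, mul_inv_cancel_right]
    · rw [S.odd_conj hinv hodd hl hout hidx (hM'le hm) hg]; exact inv_mem hm⟩
  have hsqrt : ∀ m ∈ p.ker, m * m ∈ M' → m ∈ M' := by
    intro m hm h
    obtain ⟨j, hj⟩ := hodd
    have h1 : m ^ Nat.card p.ker = 1 := congrArg Subtype.val (pow_card_eq_one' (x := (⟨m, hm⟩ : p.ker)))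
    have h2 : (m * m) ^ (j + 1) = m := by
      rw [← pow_two, ← pow_mul, show 2 * (j + 1) = (2 * j + 1) + 1 by ring, pow_succ, ← hj, h1, one_mul]
    rw [← h2]; exact pow_mem h _
  -- differences of the two lifts of a far member
  have hdiff : ∀ e ∈ D, ¬ Commute l e → ∀ s ∈ Com D l e, ∀ s' ∈ Com D l e, ∀ hs ∈ H, ∀ hs' ∈ H,
      p hs = s → p hs' = s' → ∀ x m, p x = e → m ∈ p.ker → Commute x hs → Commute (x * m) hs' → m ∈ M' := by
    intro e he hne s hsC s' hsC' hs hsH hs' hsH' hps hps' x m hx hm hc1 hc2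
    obtain ⟨g, hgl, hge⟩ := C.trans_far hl he hne hl he₀ hle₀
    obtain ⟨h, hh, hph⟩ : g ∈ H.map p := R.map ▸
      Subgroup.mem_centralizer_singleton_iff.2 (mul_inv_eq_iff_eq_mul.1 hgl)
    -- the product of the two lifts moves the lift of `e₀`
    have hsm : h * m * h⁻¹ ∈ M' → m ∈ M' := fun k => by
      have := hM'n.conj_mem _ k h⁻¹
      rwa [inv_inv, show h⁻¹ * (h * m * h⁻¹) * h = m by group] at this
    refine hsm (hsqrt _ ((inferInstance : p.ker.Normal).conj_mem m hm h) ?_)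
    set y := h * x * h⁻¹ with hy
    set n := h * m * h⁻¹ with hn
    set a := h * hs * h⁻¹ with ha
    set b := h * hs' * h⁻¹ with hb
    have hbC : p b = g * s' * g⁻¹ := by rw [hb, map_mul, map_mul, map_inv, hph, hps']
    have haC : p a = g * s * g⁻¹ := by rw [ha, map_mul, map_mul, map_inv, hph, hps]
    have hcomm : ∀ {z : G}, z ∈ Com D l e → g * z * g⁻¹ ∈ Com D l e₀ := fun {z} hz =>
      ⟨hgl ▸ nb_conj C.group g hz.1, hge ▸ nb_conj C.group g hz.2⟩
    have hnk : n ∈ p.ker := (inferInstance : p.ker.Normal).conj_mem m hm h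
    have hya : Commute y a := (commute_conj_iff h x hs).2 hc1
    have hynb : Commute (y * n) b := by
      rw [hy, hn, show h * x * h⁻¹ * (h * m * h⁻¹) = h * (x * m) * h⁻¹ by group]
      exact (commute_conj_iff h _ _).2 hc2
    have hr : p (b * a) ∈ P := by
      rw [map_mul, hbC, haC]
      exact ⟨mul_mem (Subgroup.subset_closure (hcomm hsC')) (Subgroup.subset_closure (hcomm hsC)),
        (Subgroup.mul_mem_iff_of_index_two hidx).2 (iff_of_false (hout _ (hcomm hsC').1.1) (hout _ (hcomm hsC).1.1))⟩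
    have hrh' : rh ⟨p (b * a), hr⟩ = b * a := by
      refine (inv_mul_eq_one.1 (R.inf _ (mul_mem (inv_mem (hrh _)) (mul_mem ?_ ?_)) ?_))
      · exact mul_mem (mul_mem hh hsH') (inv_mem hh)
      · exact mul_mem (mul_mem hh hsH) (inv_mem hh)
      · rw [map_mul, map_inv, hprh, inv_mul_cancel]
    have hk : x₀⁻¹ * y ∈ p.ker := by
      rw [MonoidHom.mem_ker, map_mul, map_inv, hx₀, hy, map_mul, map_mul, map_inv, hph, hx, hge, inv_mul_cancel]
    refine ⟨c ⟨p (b * a), hr⟩, ⟨_, rfl⟩, ?_⟩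
    show x₀⁻¹ * (rh ⟨p (b * a), hr⟩ * x₀ * (rh ⟨p (b * a), hr⟩)⁻¹) = n * n
    rw [hrh']
    have hba : p (b * a) ∈ commutator G := hr.2
    have hxk : b * a * x₀ * (b * a)⁻¹ = b * a * y * (b * a)⁻¹ * (x₀⁻¹ * y)⁻¹ := by
      have hz := S.central _ (inv_mem hk) _ hba
      calc b * a * x₀ * (b * a)⁻¹ = b * a * y * ((x₀⁻¹ * y)⁻¹ * (b * a)⁻¹) := by group
        _ = b * a * y * ((b * a)⁻¹ * (x₀⁻¹ * y)⁻¹) := by rw [hz.inv_right.eq]
        _ = _ := by group
    have hbn : b * n⁻¹ * b⁻¹ = n := by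
      rw [S.odd_conj hinv hodd hl hout hidx (inv_mem hnk) (by rw [hbC]; exact hout _ (hcomm hsC').1.1), inv_inv]
    have hbay : b * a * y * (b * a)⁻¹ = y * (n * n) := by
      calc b * a * y * (b * a)⁻¹ = b * (a * y * a⁻¹) * b⁻¹ := by group
        _ = b * (y * n) * b⁻¹ * (b * n⁻¹ * b⁻¹) := by rw [← hya.eq]; group
        _ = y * (n * n) := by rw [← hynb.eq, mul_inv_cancel_right, hbn, mul_assoc]
    rw [hxk, hbay]
    calc x₀⁻¹ * (y * (n * n) * (x₀⁻¹ * y)⁻¹) = (x₀⁻¹ * y) * (n * n) * (x₀⁻¹ * y)⁻¹ := by group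
      _ = n * n := by
        rw [(S.comm_ker hk (mul_mem hnk hnk)).eq, mul_inv_cancel_right]
  have hsq : ∀ e ∈ D, ¬ Commute l e → ∀ s ∈ Com D l e, ∀ s' ∈ Com D l e, ∀ γ γ', IsVia p l A s e γ →
      IsVia p l A s' e γ' → γ⁻¹ * γ' ∈ M' ⊔ H := by
    intro e he hne s hs s' hs' γ γ' ⟨hγ, a, ha, b, hb, has, hab⟩ ⟨hγ', a', ha', b', hb', has', hab'⟩
    have hpx : ∀ z, p (z * t * z⁻¹) = Pt p l z := fun z => by rw [map_mul, map_mul, map_inv, S.base]; rfl
    have hcx : ∀ {z u v : Γ}, v ∈ A → z = u * v → Commute (z * t * z⁻¹) (u * t * u⁻¹) := fun {z u v} hv e => by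
      have := (commute_conj_iff u (v * t * v⁻¹) t).2 hv.1
      rwa [show u * (v * t * v⁻¹) * u⁻¹ = z * t * z⁻¹ by rw [e]; group] at this
    set x := γ * t * γ⁻¹ with hx
    set x' := γ' * t * γ'⁻¹ with hx'
    have hm : x⁻¹ * x' ∈ p.ker := by
      rw [MonoidHom.mem_ker, map_mul, map_inv, hpx, hpx, hγ, hγ', inv_mul_cancel]
    have hmem := hdiff e he hne s hs s' hs' _ (Subgroup.mem_centralizer_singleton_iff.2 ha.1.eq) _
      (Subgroup.mem_centralizer_singleton_iff.2 ha'.1.eq) (by rw [hpx, has]) (by rw [hpx, has'])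
      x (x⁻¹ * x') (by rw [hpx, hγ]) hm (hcx hb hab) (by rw [mul_inv_cancel_left]; exact hcx hb' hab')
    obtain ⟨n, hn, hn2⟩ := S.exists_sqrt hodd (inv_mem hm)
    have hnM : n ∈ M' := Subgroup.zpowers_le.2 (inv_mem hmem) hn
    have hnk := hM'le hnM
    have hox : p x ∉ commutator G := by rw [hpx, hγ]; exact hout e he
    have hnx : n * x * n⁻¹ = x' := by
      rw [S.shift hinv hl hout hidx hnk (S.odd_conj hinv hodd hl hout hidx hnk hox), hn2, inv_inv,
        mul_inv_cancel_left]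
    have hH' : (n * γ)⁻¹ * γ' ∈ H := by
      refine Subgroup.mem_centralizer_singleton_iff.2 (mul_inv_eq_iff_eq_mul.1 ?_)
      calc (n * γ)⁻¹ * γ' * t * ((n * γ)⁻¹ * γ')⁻¹ = γ⁻¹ * n⁻¹ * x' * (n * γ) := by rw [hx']; group
        _ = t := by rw [← hnx, hx]; group
    rw [show γ⁻¹ * γ' = (γ⁻¹ * n * γ) * ((n * γ)⁻¹ * γ') by group]
    exact mul_mem (Subgroup.mem_sup_left (by simpa using hM'n.conj_mem n hnM γ⁻¹)) (Subgroup.mem_sup_right hH')
  haveI := hM'n
  obtain ⟨hW, hWtop⟩ := R.kernel_le C M' hl hM'le hsq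
  have hle : p.ker ≤ M' := fun m hm => hW ⟨S.ker_le hWtop hm, hm⟩
  calc Nat.card p.ker ∣ Nat.card M' := Subgroup.card_dvd_of_le hle
    _ ∣ 3 := by rw [hM', Subgroup.card_map_of_injective p.ker.subtype_injective]; exact hrange

end Cfsg.Agent.FischerMult24
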