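import Cfsg.Agent.Lib.FischerMult24.Ext
import Cfsg.Agent.Lib.FischerMult24.Chain
import Cfsg.Agent.Lib.FischerPresented.Mult23

/-!
With a central kernel the transpositions lift to a class, and above a centraliser they generate a complement.
-/

set_option autoImplicit false
set_option linter.unusedSectionVars false
set_option linter.style.haveILetI false
set_option maxRecDepth 100000

namespace Cfsg.Agent.FischerMult24

open scoped commutatorElement

open Cfsg.Agent.Fischer
open Cfsg.Agent.Fischer.Factor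
open Cfsg.Agent.FischerUnique24 (Ctx Com Hd)

local notation "GX" => CosetCert.Setup.G CosetData.Fi23A.setup

universe v

variable {G : Type} [Group G] [Finite G] {X : Type v} [Group X] [Finite X] {D : Set G} {D1 : Set X}
  {Γ : Type} [Group Γ] {p : Γ →* G} {l : G} {t : Γ}

/-- An equivariant choice of involutions over the class. -/
structure Lifts (p : Γ →* G) (D : Set G) (l : G) (t : Γ) (T : G → Γ) : Prop where
  base : T l = t
  proj : ∀ d ∈ D, p (T d) = d
  conj : ∀ γ, ∀ d ∈ D, T (p γ * d * (p γ)⁻¹) = γ * T d * γ⁻¹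
  sq : ∀ d ∈ D, T d * T d = 1
  comm : ∀ d ∈ D, ∀ e ∈ D, Commute d e → Commute (T d) (T e)
  fix : ∀ h, Commute (p h) l → Commute h t

variable (S : Stem p l t) (hc : ∀ m ∈ p.ker, Commute m t) (C : Ctx D D1) (hl : l ∈ D)
  (hout : ∀ d ∈ D, d ∉ commutator G) (hidx : (commutator G).index = 2)
include S hc C hl hout hidx

theorem Stem.ker_center {m : Γ} (hm : m ∈ p.ker) (x : Γ) : Commute m x := by
  by_cases hx : p x ∈ commutator G
  · exact S.central m hm x hx
  · have h : p (x * t⁻¹) ∈ commutator G := by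
      rw [map_mul, map_inv, S.base, Subgroup.mul_mem_iff_of_index_two hidx, inv_mem_iff]
      exact iff_of_false hx (hout l hl)
    have := (S.central m hm _ h).mul_right (hc m hm)
    rwa [inv_mul_cancel_right] at this

theorem Stem.exists_lifts : ∃ T, Lifts p D l t T := by
  classical
  have hkc := fun {m : Γ} (hm : m ∈ p.ker) (x : Γ) => S.ker_center hc C hl hout hidx hm x
  set CL := Subgroup.centralizer ({l} : Set G) with hCL
  choose r hr using fun g : G => S.surj g
  have hmem : ∀ (γ : Γ), Commute (p γ) l → γ * t * γ⁻¹ * t⁻¹ ∈ p.ker := fun γ h => by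
    rw [MonoidHom.mem_ker, map_mul, map_mul, map_mul, map_inv, map_inv, S.base, h.eq, mul_inv_cancel_right,
      mul_inv_cancel]
  have hind : ∀ a b : Γ, p a = p b → a * t * a⁻¹ = b * t * b⁻¹ := fun a b h => by
    have hk : b⁻¹ * a ∈ p.ker := by rw [MonoidHom.mem_ker, map_mul, map_inv, h, inv_mul_cancel]
    calc a * t * a⁻¹ = b * ((b⁻¹ * a) * t) * a⁻¹ := by group
      _ = b * (t * (b⁻¹ * a)) * a⁻¹ := by rw [(hkc hk t).eq]
      _ = b * t * b⁻¹ := by group
  let χ : CL →* p.ker :=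
    MonoidHom.mk' (fun g => ⟨r g * t * (r g)⁻¹ * t⁻¹, hmem _ (by
      rw [hr]; exact Subgroup.mem_centralizer_singleton_iff.1 g.2)⟩) fun g g' => Subtype.ext (by
      show r (g * g' : CL) * t * (r (g * g' : CL))⁻¹ * t⁻¹ =
        r g * t * (r g)⁻¹ * t⁻¹ * (r g' * t * (r g')⁻¹ * t⁻¹)
      rw [hind (r (g * g' : CL)) (r g * r g') (by rw [map_mul, hr, hr, hr]; rfl)]
      set m := r g' * t * (r g')⁻¹ * t⁻¹ with hm
      have hmk : m ∈ p.ker := hmem _ (by rw [hr]; exact Subgroup.mem_centralizer_singleton_iff.1 g'.2)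
      calc r g * r g' * t * (r g * r g')⁻¹ * t⁻¹ = r g * m * (t * (r g)⁻¹ * t⁻¹) := by rw [hm]; group
        _ = m * r g * (t * (r g)⁻¹ * t⁻¹) := by rw [(hkc hmk (r g)).eq]
        _ = m * (r g * t * (r g)⁻¹ * t⁻¹) := by group
        _ = _ := (hkc hmk _).eq)
  have hab : ∀ a b : p.ker, a * b = b * a := fun a b => Subtype.ext (S.comm_ker a.2 b.2).eq
  have hnbC : ∀ s ∈ Nb D l, s ∈ CL := fun s hs => Subgroup.mem_centralizer_singleton_iff.2 hs.2.2.symm.eq
  obtain ⟨s₀, hs₀⟩ := C.nb_nonempty hl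
  obtain ⟨c, hc₀⟩ : ∃ c, χ ⟨s₀, hnbC s₀ hs₀⟩ = c := ⟨_, rfl⟩
  have heq : ∀ s (hs : s ∈ Nb D l), χ ⟨s, hnbC s hs⟩ = c := by
    intro s hs
    obtain ⟨g, hgl, hgs⟩ := C.trans_near hl hs₀ hl hs
    have hg : g ∈ CL := Subgroup.mem_centralizer_singleton_iff.2 (mul_inv_eq_iff_eq_mul.1 hgl)
    rw [show (⟨s, hnbC s hs⟩ : CL) = ⟨g, hg⟩ * ⟨s₀, hnbC s₀ hs₀⟩ * ⟨g, hg⟩⁻¹ from Subtype.ext hgs.symm, map_mul,
      map_mul, map_inv, hab (χ ⟨g, hg⟩), mul_inv_cancel_right, hc₀]
  have hc2 : c * c = 1 := by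
    rw [← hc₀, ← map_mul, show (⟨s₀, hnbC s₀ hs₀⟩ : CL) * ⟨s₀, hnbC s₀ hs₀⟩ = 1 from
      Subtype.ext (TSet.sq C.group.1 hs₀.1), map_one]
  have hle : Hd D l = CL := (C.centralizer hl).symm
  have hpow : ∀ x ∈ Hd D l, ∀ hx : x ∈ CL, ∃ n : ℕ, χ ⟨x, hx⟩ = c ^ n ∧ (x ∈ commutator G ↔ Even n) := by
    intro x hx
    induction hx using Subgroup.closure_induction_left with
    | one => intro h; exact ⟨0, by rw [pow_zero]; exact map_one χ, by simp⟩
    | mul_left a ha y hy ih =>
      intro h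
      obtain ⟨n, h1, h2⟩ := ih (hle ▸ hy)
      refine ⟨n + 1, ?_, ?_⟩
      · rw [show (⟨a * y, h⟩ : CL) = ⟨a, hnbC a ha⟩ * ⟨y, hle ▸ hy⟩ from rfl, map_mul, heq a ha, h1, pow_succ']
      · rw [Subgroup.mul_mem_iff_of_index_two hidx, h2, Nat.even_add_one]
        simp [hout a ha.1]
    | inv_mul_cancel a ha y hy ih =>
      intro h
      have ea : a⁻¹ = a := TSet.inv C.group.1 ha.1
      obtain ⟨n, h1, h2⟩ := ih (hle ▸ hy)
      refine ⟨n + 1, ?_, ?_⟩
      · rw [show (⟨a⁻¹ * y, h⟩ : CL) = ⟨a, hnbC a ha⟩ * ⟨y, hle ▸ hy⟩ from Subtype.ext (by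
            show a⁻¹ * y = a * y
            rw [ea]), map_mul, heq a ha, h1, pow_succ']
      · rw [ea, Subgroup.mul_mem_iff_of_index_two hidx, h2, Nat.even_add_one]
        simp [hout a ha.1]
  have hc1 : c = 1 := by
    obtain ⟨n, h1, h2⟩ := hpow l (C.mem_self hl) (Subgroup.mem_centralizer_singleton_iff.2 rfl)
    obtain ⟨k, hk⟩ : Odd n := Nat.not_even_iff_odd.1 fun h => hout l hl (h2.2 h)
    have hl1 : χ ⟨l, Subgroup.mem_centralizer_singleton_iff.2 rfl⟩ = 1 := Subtype.ext (by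
      show r l * t * (r l)⁻¹ * t⁻¹ = 1
      rw [hind (r l) t (by rw [hr, S.base]), mul_inv_cancel_right, mul_inv_cancel])
    rw [hl1, hk, pow_succ, pow_mul, pow_two, hc2, one_pow, one_mul] at h1
    exact h1.symm
  have fix : ∀ h, Commute (p h) l → Commute h t := by
    intro h hh
    have hh' : p h ∈ CL := Subgroup.mem_centralizer_singleton_iff.2 hh.eq
    obtain ⟨n, h1, -⟩ := hpow (p h) (hle ▸ hh') hh'
    rw [hc1, one_pow] at h1
    have h2 : r (p h) * t * (r (p h))⁻¹ * t⁻¹ = 1 := congrArg Subtype.val h1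
    rw [hind (r (p h)) h (hr _)] at h2
    exact mul_inv_eq_iff_eq_mul.1 (mul_inv_eq_one.1 h2)
  have wd : ∀ a b : Γ, Pt p l a = Pt p l b → a * t * a⁻¹ = b * t * b⁻¹ := by
    intro a b h
    have hc' : Commute (p (b⁻¹ * a)) l := by
      rw [Pt, Pt] at h
      rw [map_mul, map_inv]
      show (p b)⁻¹ * p a * l = l * ((p b)⁻¹ * p a)
      calc (p b)⁻¹ * p a * l = (p b)⁻¹ * (p a * l * (p a)⁻¹) * p a := by group
        _ = (p b)⁻¹ * (p b * l * (p b)⁻¹) * p a := by rw [h]
        _ = l * ((p b)⁻¹ * p a) := by group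
    calc a * t * a⁻¹ = b * ((b⁻¹ * a) * t) * a⁻¹ := by group
      _ = b * (t * (b⁻¹ * a)) * a⁻¹ := by rw [(fix _ hc').eq]
      _ = b * t * b⁻¹ := by group
  have hex : ∀ d, ∃ γ : Γ, d ∈ D → Pt p l γ = d := fun d => by
    by_cases hd : d ∈ D
    · obtain ⟨g, hg⟩ := C.prim.1 l hl d hd
      exact ⟨r g, fun _ => by rw [Pt, hr, hg]⟩
    · exact ⟨1, fun h => absurd h hd⟩
  choose w hw using hex
  have hT : ∀ d ∈ D, ∀ γ, Pt p l γ = d → w d * t * (w d)⁻¹ = γ * t * γ⁻¹ := fun d hd γ e =>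
    wd _ _ ((hw d hd).trans e.symm)
  refine ⟨fun d => w d * t * (w d)⁻¹, ?_, fun d hd => ?_, fun γ d hd => ?_, fun d hd => ?_, fun d hd e he h => ?_, fix⟩
  · show w l * t * (w l)⁻¹ = t
    rw [hT l hl 1 (by rw [Pt, map_one]; group)]; group
  · show p (w d * t * (w d)⁻¹) = d
    rw [map_mul, map_mul, map_inv, S.base]; exact hw d hd
  · show w _ * t * (w _)⁻¹ = γ * (w d * t * (w d)⁻¹) * γ⁻¹
    rw [hT _ (C.group.2.1 _ d hd) (γ * w d) (by rw [pt_mul, hw d hd]), mul_inv_rev]; group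
  · show w d * t * (w d)⁻¹ * (w d * t * (w d)⁻¹) = 1
    calc w d * t * (w d)⁻¹ * (w d * t * (w d)⁻¹) = w d * (t * t) * (w d)⁻¹ := by group
      _ = 1 := by rw [S.sq]; group
  · show Commute (w d * t * (w d)⁻¹) (w e * t * (w e)⁻¹)
    have h1 := hT e he ((w d * t * (w d)⁻¹) * w e) (by
      rw [pt_mul, hw e he, map_mul, map_mul, map_inv, S.base, show p (w d) * l * (p (w d))⁻¹ = d from hw d hd,
        h.eq, mul_inv_cancel_right])
    refine mul_inv_eq_iff_eq_mul.1 (Eq.trans ?_ h1.symm)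
    group

/-- The lifts around the base generate a complement of the kernel over the centraliser. -/
theorem Lifts.complement (V : FischerQuad.Env D) {T : G → Γ} (L : Lifts p D l t T) :
    ∀ h ∈ Subgroup.closure (T '' insert l (Nb D l)), p h = 1 → h = 1 := by
  classical
  have hkc := fun {m : Γ} (hm : m ∈ p.ker) (x : Γ) => S.ker_center hc C hl hout hidx hm x
  set H := Subgroup.closure (T '' insert l (Nb D l)) with hH
  obtain ⟨f, hf, hker⟩ := C.chart23 hl
  have hlH : l ∈ Hd D l := C.mem_self hl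
  have hpH : ∀ h ∈ H, p h ∈ Hd D l := fun h hh => by
    induction hh using Subgroup.closure_induction with
    | mem x hx =>
      obtain ⟨d, hd, rfl⟩ := hx
      rcases hd with rfl | hd
      · rw [L.proj d hl]; exact hlH
      · rw [L.proj d hd.1]; exact Subgroup.subset_closure hd
    | one => rw [map_one]; exact one_mem _
    | mul a b _ _ h1 h2 => rw [map_mul]; exact mul_mem h1 h2
    | inv a _ h1 => rw [map_inv]; exact inv_mem h1
  have hHt : ∀ h ∈ H, Commute h t := fun h hh => L.fix h (commute_of_mem_closure_nb (hpH h hh)).symm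
  have hmapH : ∀ g ∈ Hd D l, ∃ h ∈ H, p h = g := fun g hg => by
    induction hg using Subgroup.closure_induction with
    | mem x hx => exact ⟨T x, Subgroup.subset_closure ⟨x, Or.inr hx, rfl⟩, L.proj x hx.1⟩
    | one => exact ⟨1, one_mem _, map_one p⟩
    | mul a b _ _ h1 h2 =>
      obtain ⟨x, hx, rfl⟩ := h1
      obtain ⟨y, hy, rfl⟩ := h2
      exact ⟨x * y, mul_mem hx hy, map_mul p x y⟩
    | inv a _ h1 =>
      obtain ⟨x, hx, rfl⟩ := h1
      exact ⟨x⁻¹, inv_mem hx, map_inv p x⟩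
  let σ : H →* GX := MonoidHom.mk' (fun h => f (p h)) fun a b => by
    rw [Subgroup.coe_mul, map_mul, hf.map_mul _ (hpH a a.2) _ (hpH b b.2)]
  have hσs : Function.Surjective σ := fun z => by
    obtain ⟨g, hg, rfl⟩ := hf.surj z
    obtain ⟨h, hh, rfl⟩ := hmapH g hg
    exact ⟨⟨h, hh⟩, rfl⟩
  have hσz : σ.ker ≤ Subgroup.center H := by
    intro x hx
    refine Subgroup.mem_center_iff.2 fun y => Subtype.ext ?_
    rcases (hker _ (hpH x x.2)).1 hx with e | e
    · exact (hkc e (y : Γ)).eq.symm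
    · have hm : (x : Γ) * t⁻¹ ∈ p.ker := by rw [MonoidHom.mem_ker, map_mul, map_inv, e, S.base, mul_inv_cancel]
      have := ((hkc hm (y : Γ)).mul_left (hHt y y.2).symm)
      rw [inv_mul_cancel_right] at this
      exact this.eq.symm
  haveI : Finite GX := FischerPresented.Fi23.order_facts.1
  have hperf : commutator GX = ⊤ := by
    haveI := FischerPresented.Fi23.isSimpleGroup
    refine (inferInstance : (commutator GX).Normal).eq_bot_or_eq_top.resolve_left fun h => ?_
    have hcomm : ∀ a b : GX, a * b = b * a := fun a b =>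
      commutatorElement_eq_one_iff_mul_comm.1 (Subgroup.mem_bot.1 (h ▸ (by
        rw [commutator_def]
        exact Subgroup.commutator_mem_commutator (Subgroup.mem_top a) (Subgroup.mem_top b) :
          ⁅a, b⁆ ∈ commutator GX)))
    letI : CommGroup GX := { (inferInstance : Group GX) with mul_comm := hcomm }
    have hp := IsSimpleGroup.prime_card (α := GX)
    rw [FischerPresented.Fi23.order_facts.2.1] at hp
    norm_num at hp
  set E1 := commutator H with hE1
  let σ1 : E1 →* GX := σ.comp E1.subtype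
  have hσ1s : Function.Surjective σ1 := fun z => by
    have h : (commutator H).map σ = commutator GX := by
      rw [commutator_def, commutator_def, Subgroup.map_commutator, Subgroup.map_top_of_surjective σ hσs]
    obtain ⟨e, he, rfl⟩ : z ∈ (commutator H).map σ := by rw [h, hperf]; exact Subgroup.mem_top z
    exact ⟨⟨e, he⟩, rfl⟩
  have hbot : σ1.ker = ⊥ := by
    refine FischerPresented.Mult23.ker_eq_bot (fun x hx => Subgroup.mem_center_iff.2 fun y => Subtype.ext
      (Subgroup.mem_center_iff.1 (hσz (show (x : H) ∈ σ.ker from hx)) y)) hσ1s fun x _ => ?_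
    have hle : E1 ≤ ⁅E1, E1⁆ := by
      conv_lhs => rw [hE1, commutator_def]
      refine Subgroup.commutator_le.2 fun a _ b _ => ?_
      obtain ⟨ea, hea⟩ := hσ1s (σ a)
      obtain ⟨eb, heb⟩ := hσ1s (σ b)
      obtain ⟨z, rfl⟩ : ∃ z, a = (ea : H) * z := ⟨(ea : H)⁻¹ * a, (mul_inv_cancel_left _ _).symm⟩
      obtain ⟨z', rfl⟩ : ∃ z, b = (eb : H) * z := ⟨(eb : H)⁻¹ * b, (mul_inv_cancel_left _ _).symm⟩
      have ka := Subgroup.mem_center_iff.1 (hσz (show z ∈ σ.ker by
        rw [MonoidHom.mem_ker]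
        rw [map_mul] at hea
        exact left_eq_mul.1 hea))
      have kb := Subgroup.mem_center_iff.1 (hσz (show z' ∈ σ.ker by
        rw [MonoidHom.mem_ker]
        rw [map_mul] at heb
        exact left_eq_mul.1 heb))
      have key : ⁅(ea : H) * z, (eb : H) * z'⁆ = ⁅(ea : H), (eb : H)⁆ := by
        rw [commutatorElement_def, commutatorElement_def, mul_inv_rev, mul_inv_rev]
        calc (ea : H) * z * (eb * z') * (z⁻¹ * (ea : H)⁻¹) * (z'⁻¹ * (eb : H)⁻¹)
            = (ea : H) * (z * (eb * z')) * z⁻¹ * (ea : H)⁻¹ * (z'⁻¹ * (eb : H)⁻¹) := by group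
          _ = (ea : H) * eb * (z' * (ea : H)⁻¹) * (z'⁻¹ * (eb : H)⁻¹) := by rw [← ka (eb * z')]; group
          _ = (ea : H) * eb * (ea : H)⁻¹ * (eb : H)⁻¹ := by rw [← kb (ea : H)⁻¹]; group
      rw [key]
      exact Subgroup.commutator_mem_commutator ea.2 eb.2
    have h := hle x.2
    rw [← Subgroup.map_subtype_commutator] at h
    obtain ⟨y, hy, e⟩ := h
    rwa [← show y = x from Subtype.ext e]
  have huniq : ∀ a ∈ E1, ∀ b ∈ E1, σ a = σ b → a = b := fun a ha b hb h => by
    have : (⟨a, ha⟩ : E1)⁻¹ * ⟨b, hb⟩ ∈ σ1.ker := by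
      rw [MonoidHom.mem_ker, map_mul, map_inv]
      show (σ a)⁻¹ * σ b = 1
      rw [h, inv_mul_cancel]
    rw [hbot, Subgroup.mem_bot, inv_mul_eq_one] at this
    exact congrArg Subtype.val this
  have hE1L : ∀ e ∈ E1, p (e : Γ) ∈ commutator G := fun e he => by
    have h : (commutator H).map (p.comp H.subtype) ≤ commutator G := by
      rw [commutator_def, commutator_def, Subgroup.map_commutator]
      exact Subgroup.commutator_mono le_top le_top
    exact h ⟨e, he, rfl⟩
  haveI hE1n : E1.Normal := inferInstance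
  let tH : H := ⟨t, L.base ▸ Subgroup.subset_closure ⟨l, Or.inl rfl, rfl⟩⟩
  have htH : ∀ h : H, Commute tH h := fun h => Subtype.ext (hHt h h.2).symm.eq
  have hσt : σ tH = 1 := (hker _ (hpH t tH.2)).2 (Or.inr S.base)
  let η : ∀ s, s ∈ Nb D l → H := fun s hs => tH * ⟨T s, Subgroup.subset_closure ⟨s, Or.inr hs, rfl⟩⟩
  have hση : ∀ s hs, σ (η s hs) = f s := fun s hs => by
    rw [map_mul, hσt, one_mul]
    exact congrArg f (L.proj s hs.1)
  obtain ⟨s₀, hs₀⟩ := C.nb_nonempty hl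
  obtain ⟨⟨e₀, he₀⟩, he₀σ⟩ := hσ1s (f s₀)
  obtain ⟨ν, hν⟩ : ∃ ν, e₀⁻¹ * η s₀ hs₀ = ν := ⟨_, rfl⟩
  have hνk : p (ν : Γ) = 1 := by
    have h1 : σ ν = 1 := by
      rw [← hν, map_mul, map_inv, hση s₀ hs₀]
      show (σ e₀)⁻¹ * f s₀ = 1
      rw [show σ e₀ = f s₀ from he₀σ, inv_mul_cancel]
    rcases (hker _ (hpH ν ν.2)).1 h1 with h | h
    · exact h
    · exfalso
      refine hout l hl ?_
      rw [← h, ← hν, Subgroup.coe_mul, Subgroup.coe_inv, map_mul, map_inv]
      refine mul_mem (inv_mem (hE1L e₀ he₀)) ?_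
      show p (t * T s₀) ∈ commutator G
      rw [map_mul, S.base, L.proj s₀ hs₀.1, Subgroup.mul_mem_iff_of_index_two hidx]
      exact iff_of_false (hout l hl) (hout s₀ hs₀.1)
  have hνc : ∀ h : H, Commute ν h := fun h => Subtype.ext (hkc hνk (h : Γ)).eq
  have hform : ∀ s hs, ∃ e ∈ E1, η s hs = e * ν := fun s hs => by
    obtain ⟨g, hgl, hgs⟩ := C.trans_near hl hs₀ hl hs
    obtain ⟨h, hh, hph⟩ := hmapH g ((C.centralizer hl).le
      (Subgroup.mem_centralizer_singleton_iff.2 (mul_inv_eq_iff_eq_mul.1 hgl)))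
    refine ⟨⟨h, hh⟩ * e₀ * ⟨h, hh⟩⁻¹, hE1n.conj_mem e₀ he₀ _, ?_⟩
    have e1 : η s hs = ⟨h, hh⟩ * η s₀ hs₀ * ⟨h, hh⟩⁻¹ := Subtype.ext (by
      show t * T s = h * (t * T s₀) * h⁻¹
      have := L.conj h s₀ hs₀.1
      rw [hph, hgs] at this
      rw [this]
      calc t * (h * T s₀ * h⁻¹) = (t * h) * T s₀ * h⁻¹ := by group
        _ = h * (t * T s₀) * h⁻¹ := by rw [(hHt h hh).symm.eq]; group)
    rw [e1, ← hν]
    have := hνc ⟨h, hh⟩⁻¹
    rw [← hν] at this
    calc (⟨h, hh⟩ : H) * η s₀ hs₀ * ⟨h, hh⟩⁻¹ = ⟨h, hh⟩ * e₀ * ((e₀⁻¹ * η s₀ hs₀) * ⟨h, hh⟩⁻¹) := by group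
      _ = ⟨h, hh⟩ * e₀ * ((⟨h, hh⟩ : H)⁻¹ * (e₀⁻¹ * η s₀ hs₀)) := by rw [this.eq]
      _ = _ := by group
  have hν2 : ν * ν = 1 := by
    have hη2 : η s₀ hs₀ * η s₀ hs₀ = 1 := Subtype.ext (by
      show t * T s₀ * (t * T s₀) = 1
      have hcm : Commute t (T s₀) := L.base ▸ L.comm l hl s₀ hs₀.1 hs₀.2.2
      calc t * T s₀ * (t * T s₀) = t * (T s₀ * t) * T s₀ := by group
        _ = (t * t) * (T s₀ * T s₀) := by rw [← hcm.eq]; group
        _ = 1 := by rw [S.sq, L.sq s₀ hs₀.1, one_mul])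
    have he2 : e₀ * e₀ = 1 := huniq _ (mul_mem he₀ he₀) _ (one_mem _) (by
      rw [map_mul, show σ e₀ = f s₀ from he₀σ, ← hση s₀ hs₀, ← map_mul, hη2])
    calc ν * ν = (e₀ * ν) * (e₀ * ν) * (e₀ * e₀)⁻¹ := by
          rw [show e₀ * ν * (e₀ * ν) = e₀ * (ν * e₀) * ν by group, (hνc e₀).eq,
            show e₀ * (e₀ * ν) * ν * (e₀ * e₀)⁻¹ = (e₀ * e₀) * ((ν * ν) * (e₀ * e₀)⁻¹) by group, he2]
          group
      _ = 1 := by rw [← hν, mul_inv_cancel_left, hη2, he2]; group
  -- products of lifts of neighbours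
  have hword : ∀ w : List G, (∀ x ∈ w, x ∈ Nb D l) → ∃ e ∈ E1, σ e = f w.prod ∧
      (t ^ w.length * (w.map T).prod : Γ) = (e : Γ) * (ν : Γ) ^ w.length := by
    intro w
    induction w with
    | nil => intro _; exact ⟨1, one_mem _, by rw [map_one, List.prod_nil, hf.map_one], by simp⟩
    | cons s w ih =>
      intro hw
      have hs : s ∈ Nb D l := hw s List.mem_cons_self
      obtain ⟨e, he, h1, h2⟩ := ih fun x hx => hw x (List.mem_cons_of_mem _ hx)
      obtain ⟨es, hes, h3⟩ := hform s hs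
      have hwH : w.prod ∈ Hd D l :=
        list_prod_mem fun x hx => Subgroup.subset_closure (hw x (List.mem_cons_of_mem _ hx))
      refine ⟨es * e, mul_mem hes he, ?_, ?_⟩
      · rw [List.prod_cons, hf.map_mul _ (Subgroup.subset_closure hs) _ hwH, map_mul, h1, ← hση s hs, h3,
          map_mul, show σ ν = 1 from (hker _ (hpH ν ν.2)).2 (Or.inl hνk), mul_one]
      · have h3' : t * T s = (es : Γ) * (ν : Γ) := congrArg Subtype.val h3
        have hts : Commute (t ^ w.length) (T s) := (L.base ▸ L.comm l hl s hs.1 hs.2.2 : Commute t (T s)).pow_left _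
        rw [List.map_cons, List.prod_cons, List.length_cons, pow_succ', pow_succ', Subgroup.coe_mul]
        calc t * t ^ w.length * (T s * (w.map T).prod) = t * (t ^ w.length * T s) * (w.map T).prod := by group
          _ = (t * T s) * (t ^ w.length * (w.map T).prod) := by rw [hts.eq]; group
          _ = (es : Γ) * ((ν : Γ) * (e : Γ)) * (ν : Γ) ^ w.length := by rw [h2, h3']; group
          _ = _ := by rw [(hkc hνk (e : Γ)).eq]; group
  have hoct : ∀ P : List G, P.Nodup ∧ (∀ x ∈ P, x ∈ D) ∧ (∀ x ∈ P, ∀ y ∈ P, Commute x y) → P.length = 8 →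
      P.prod = 1 → (P.map T).prod = (ν : Γ) := by
    rintro P ⟨hn, hD, hcm⟩ hlen hprod
    obtain ⟨d, Q, rfl⟩ : ∃ d Q, P = d :: Q := by cases P with
      | nil => simp at hlen
      | cons d Q => exact ⟨d, Q, rfl⟩
    have hd : d ∈ D := hD d List.mem_cons_self
    obtain ⟨g, hg⟩ := C.prim.1 l hl d hd
    obtain ⟨γ, rfl⟩ := S.surj g
    set w := Q.map fun x => (p γ)⁻¹ * x * p γ with hw
    have hwm : ∀ x ∈ w, x ∈ Nb D l := by
      intro x hx
      obtain ⟨q, hq, rfl⟩ := List.mem_map.1 hx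
      have hqn : q ∈ Nb D d := ⟨hD q (List.mem_cons_of_mem _ hq),
        fun e => (List.nodup_cons.1 hn).1 (e ▸ hq), hcm d List.mem_cons_self q (List.mem_cons_of_mem _ hq)⟩
      have := nb_conj C.group (p γ)⁻¹ hqn
      rwa [← hg, inv_inv, show (p γ)⁻¹ * (p γ * l * (p γ)⁻¹) * p γ = l by group] at this
    obtain ⟨e, he, h1, h2⟩ := hword w hwm
    have hcj : (fun x => (p γ)⁻¹ * x * p γ) = (MulAut.conj (p γ)⁻¹ : MulAut G) := by ext x; simp
    have hwprod : w.prod = l := by
      rw [hw, hcj, ← map_list_prod]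
      rw [List.prod_cons, mul_eq_one_iff_eq_inv] at hprod
      rw [show Q.prod = d⁻¹ by rw [hprod, inv_inv], TSet.inv C.group.1 hd, MulAut.conj_apply, inv_inv, ← hg]
      group
    have hlen' : w.length = 7 := by rw [hw, List.length_map]; simpa using hlen
    have he1 : e = 1 := huniq e he 1 (one_mem _) (by
      rw [h1, hwprod, map_one]; exact (hker l hlH).2 (Or.inr rfl))
    have hν' : (ν : Γ) * (ν : Γ) = 1 := congrArg Subtype.val hν2
    rw [he1, hlen', Subgroup.coe_one, one_mul, show t ^ 7 = t from by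
        rw [pow_succ, show (6 : ℕ) = 2 * 3 from rfl, pow_mul, pow_two, S.sq, one_pow, one_mul],
      show (ν : Γ) ^ 7 = ν from by
        rw [pow_succ, show (6 : ℕ) = 2 * 3 from rfl, pow_mul, pow_two, hν', one_pow, one_mul]] at h2
    have hwT : (w.map T).prod = γ⁻¹ * (Q.map T).prod * γ := by
      have e1 : γ⁻¹ * (Q.map T).prod * γ = ((Q.map T).map (MulAut.conj γ⁻¹)).prod := by
        rw [← map_list_prod, MulAut.conj_apply, inv_inv]
      rw [e1, hw, List.map_map, List.map_map]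
      refine congrArg List.prod (List.map_congr_left fun q hq => ?_)
      simp only [Function.comp_apply, MulAut.conj_apply, inv_inv]
      have := L.conj γ⁻¹ q (hD q (List.mem_cons_of_mem _ hq))
      rwa [map_inv, inv_inv, inv_inv] at this
    rw [hwT] at h2
    rw [List.map_cons, List.prod_cons, ← hg, L.conj γ l hl, L.base]
    calc γ * t * γ⁻¹ * (Q.map T).prod = γ * (t * (γ⁻¹ * (Q.map T).prod * γ)) * γ⁻¹ := by group
      _ = γ * (ν : Γ) * γ⁻¹ := by rw [h2]
      _ = (ν : Γ) := by rw [(hkc hνk γ).symm.eq, mul_inv_cancel_right]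
  have hν1 : ν = 1 := by
    obtain ⟨Q1, Q2, Q3, z, hQ, hP⟩ := exists_three_quads V ⟨l, hl⟩
    obtain ⟨l1, p1, hz⟩ := hQ Q1 (by simp)
    obtain ⟨l2, p2, -⟩ := hQ Q2 (by simp)
    obtain ⟨l3, p3, -⟩ := hQ Q3 (by simp)
    have hval : ∀ A B : List G, A ++ B ∈ [Q1 ++ Q2, Q2 ++ Q3, Q1 ++ Q3] → A.length = 4 → B.length = 4 →
        A.prod = z → B.prod = z → (A.map T).prod * (B.map T).prod = (ν : Γ) := fun A B h ha hb hA hB => by
      rw [← List.prod_append, ← List.map_append]
      exact hoct _ (hP _ h) (by rw [List.length_append, ha, hb]) (by rw [List.prod_append, hA, hB, hz])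
    have e12 := hval Q1 Q2 (by simp) l1 l2 p1 p2
    have e23 := hval Q2 Q3 (by simp) l2 l3 p2 p3
    have e13 := hval Q1 Q3 (by simp) l1 l3 p1 p3
    obtain ⟨-, hD2, hc2⟩ := hP (Q1 ++ Q2) (by simp)
    have sq2 : ∀ W : List G, (∀ x ∈ W, x ∈ D) → (∀ x ∈ W, ∀ y ∈ W, Commute x y) →
        (W.map T).prod * (W.map T).prod = 1 := by
      intro W
      induction W with
      | nil => simp
      | cons x W ih =>
        intro h1 h2
        have hx := h1 x List.mem_cons_self
        have hcx : Commute (T x) (W.map T).prod := Commute.list_prod_right _ _ fun y hy => by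
          obtain ⟨y', hy', rfl⟩ := List.mem_map.1 hy
          exact L.comm x hx y' (h1 y' (List.mem_cons_of_mem _ hy'))
            (h2 x List.mem_cons_self y' (List.mem_cons_of_mem _ hy'))
        rw [List.map_cons, List.prod_cons]
        calc T x * (W.map T).prod * (T x * (W.map T).prod) = T x * ((W.map T).prod * T x) * (W.map T).prod := by group
          _ = (T x * T x) * ((W.map T).prod * (W.map T).prod) := by rw [← hcx.eq]; group
          _ = 1 := by
            rw [L.sq x hx, ih (fun y hy => h1 y (List.mem_cons_of_mem _ hy))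
              fun y hy y' hy' => h2 y (List.mem_cons_of_mem _ hy) y' (List.mem_cons_of_mem _ hy'), one_mul]
    have v2 := sq2 Q2 (fun x hx => hD2 x (List.mem_append_right _ hx))
      (fun x hx y hy => hc2 x (List.mem_append_right _ hx) y (List.mem_append_right _ hy))
    refine Subtype.ext ?_
    show (ν : Γ) = 1
    calc (ν : Γ) = (Q1.map T).prod * ((Q2.map T).prod * (Q2.map T).prod) * (Q3.map T).prod := by
          rw [v2, mul_one, e13]
      _ = ((Q1.map T).prod * (Q2.map T).prod) * ((Q2.map T).prod * (Q3.map T).prod) := by group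
      _ = 1 := by rw [e12, e23]; exact congrArg Subtype.val hν2
  -- every element is even, or the base times an even one
  have hall : ∀ h : H, h ∈ E1 ∨ tH * h ∈ E1 := by
    have ht2 : tH * tH = 1 := Subtype.ext S.sq
    rintro ⟨h, hh⟩
    induction hh using Subgroup.closure_induction with
    | mem x hx =>
      obtain ⟨d, hd, rfl⟩ := hx
      right
      rcases hd with rfl | hd
      · rw [show (⟨T d, _⟩ : H) = tH from Subtype.ext L.base, ht2]; exact one_mem _
      · obtain ⟨e, he, h'⟩ := hform d hd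
        rw [hν1, mul_one] at h'
        show η d hd ∈ E1
        rw [h']; exact he
    | one => exact Or.inl (one_mem _)
    | mul a b ha hb h1 h2 =>
      rw [show (⟨a * b, _⟩ : H) = ⟨a, ha⟩ * ⟨b, hb⟩ from rfl]
      rcases h1 with h1 | h1 <;> rcases h2 with h2 | h2
      · exact Or.inl (mul_mem h1 h2)
      · right
        rw [← mul_assoc, (htH ⟨a, ha⟩).eq, mul_assoc]
        exact mul_mem h1 h2
      · exact Or.inr (by rw [← mul_assoc]; exact mul_mem h1 h2)
      · left
        have := mul_mem h1 h2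
        rwa [show tH * ⟨a, ha⟩ * (tH * ⟨b, hb⟩) = tH * (⟨a, ha⟩ * tH) * ⟨b, hb⟩ by group, ← (htH ⟨a, ha⟩).eq,
          ← mul_assoc tH tH, ht2, one_mul] at this
    | inv a ha h1 =>
      rw [show (⟨a⁻¹, _⟩ : H) = ⟨a, ha⟩⁻¹ from rfl]
      refine h1.imp (fun h => inv_mem h) fun h => ?_
      have := inv_mem h
      rwa [mul_inv_rev, inv_eq_of_mul_eq_one_right ht2, ← (htH (⟨a, ha⟩⁻¹)).eq] at this
  intro h hh hp
  rcases hall ⟨h, hh⟩ with he | he
  · exact congrArg Subtype.val (huniq _ he 1 (one_mem _) (by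
      rw [map_one]; show f (p h) = 1; rw [hp, hf.map_one]))
  · exfalso
    refine hout l hl ?_
    have := hE1L _ he
    rwa [Subgroup.coe_mul, map_mul, show p (tH : Γ) = l from S.base, hp, mul_one] at this

end Cfsg.Agent.FischerMult24
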