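import Cfsg.Agent.Lib.FischerMult24.Reduce
import Cfsg.Agent.Lib.FischerUnique24.FourProduct
import Cfsg.Agent.Lib.FischerLocal24.Chart
import Cfsg.Agent.Lib.Components.Basic
import Cfsg.Agent.S5375

/-!
Stem extensions of the subgroup of index two in a group of type M(24).
-/

set_option autoImplicit false

namespace Cfsg.Agent.FischerMult24

open Cfsg.Agent.Fischer.Factor

variable {G : Type} [Group G] [Finite G] {D : Set G}

/-- The kernel of a finite stem extension has order dividing three. -/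
theorem card_stem_ker_of_type (hD : Cfsg.IsThreeTranspositionGroup D)
    (hprim : Cfsg.IsPrimitiveUnderConj D) {d₀ : G} (hd₀ : d₀ ∈ D)
    (h3 : Cfsg.pCore 3 ↥(Subgroup.closure (Nb D d₀)) ≤ Subgroup.center ↥(Subgroup.closure (Nb D d₀)))
    (h2 : Cfsg.pCore 2 ↥(Subgroup.closure (Nb D d₀)) ≤ Subgroup.center ↥(Subgroup.closure (Nb D d₀)))
    (h24 : Cfsg.IsOfTypeM24 G D) {E : Type} [Group E] [Finite E] (τ : E →* ↥(commutator G))
    (hτ : Cfsg.IsStemExtension τ) : Nat.card τ.ker ∣ 3 := by
  obtain ⟨h1, h2', h3', -, h5⟩ := Cfsg.Agent.S5375.result hD hprim h24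
  have O : FischerLocal24.OrderData G D := ⟨h1, h2', h3', h5⟩
  have F := FischerInvol24.facts_of_type hD hprim hd₀ h3 h2 h24
  obtain ⟨d', -, C⟩ := FischerUnique24.exists_ctx hD hprim h24
  have Q : FischerQuad.Env D := ⟨F, fun t ht => C.card_four F ht⟩
  have he := FischerLocal24.commutator_eq_layer h1
  have hperf : ⁅commutator G, commutator G⁆ = commutator G := by
    have h := (Components.layer_isPerfect (G := G)).commutator_eq_top
    rw [← he] at h
    rw [← Subgroup.map_subtype_commutator, h, ← MonoidHom.range_eq_map, Subgroup.range_subtype]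
  exact card_stem_ker C Q h24 hd₀ (fun d hd => FischerLocal24.not_mem_commutator hD hprim.1 O hd)
    (by rw [he]; exact h1) hperf τ hτ

/-- The kernel of a finite stem extension is an image of the cyclic group of order three. -/
theorem exists_stem_ker_surjection (hD : Cfsg.IsThreeTranspositionGroup D)
    (hprim : Cfsg.IsPrimitiveUnderConj D) {d₀ : G} (hd₀ : d₀ ∈ D)
    (h3 : Cfsg.pCore 3 ↥(Subgroup.closure (Nb D d₀)) ≤ Subgroup.center ↥(Subgroup.closure (Nb D d₀)))
    (h2 : Cfsg.pCore 2 ↥(Subgroup.closure (Nb D d₀)) ≤ Subgroup.center ↥(Subgroup.closure (Nb D d₀)))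
    (h24 : Cfsg.IsOfTypeM24 G D) {E : Type} [Group E] [Finite E] (τ : E →* ↥(commutator G))
    (hτ : Cfsg.IsStemExtension τ) : ∃ π : Multiplicative (ZMod 3) →* τ.ker, Function.Surjective π := by
  haveI : Fact (Nat.Prime 3) := ⟨Nat.prime_three⟩
  rcases (Nat.dvd_prime Nat.prime_three).1 (card_stem_ker_of_type hD hprim hd₀ h3 h2 h24 τ hτ) with h | h
  · haveI := (Nat.card_eq_one_iff_unique.1 h).1
    exact ⟨1, fun x => ⟨1, Subsingleton.elim _ _⟩⟩
  · have e : Multiplicative (ZMod 3) ≃* τ.ker :=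
      mulEquivOfPrimeCardEq (p := 3) (by rw [Nat.card_congr Multiplicative.toAdd, Nat.card_zmod]) h
    exact ⟨e.toMonoidHom, e.surjective⟩

end Cfsg.Agent.FischerMult24
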