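import Cfsg.Prelude.Def_KGroupFacts
import Cfsg.Agent.Lib.FischerMult24.Inverted
import Cfsg.Agent.Lib.FischerMult24.Central

/-!
The kernel of a stem extension of the subgroup of index two has order dividing three.
-/

set_option autoImplicit false
set_option linter.unusedSectionVars false
set_option linter.style.haveILetI false
set_option maxRecDepth 100000

namespace Cfsg.Agent.FischerMult24

open Cfsg.Agent.Fischer
open Cfsg.Agent.FischerUnique24 (Ctx)
open scoped commutatorElement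

universe v

variable {G : Type} [Group G] [Finite G] {X : Type v} [Group X] [Finite X] {D : Set G} {D1 : Set X}

/-- An involution as a homomorphism from the group of order two. -/
def two {M : Type} [Group M] (x : M) (hx : x * x = 1) : Multiplicative (ZMod 2) →* M :=
  MonoidHom.mk' (fun i => if i.toAdd = 0 then 1 else x) fun i j => by
    revert i j
    show ∀ i j : ZMod 2, (if i + j = 0 then (1 : M) else x) = (if i = 0 then 1 else x) * (if j = 0 then 1 else x)
    intro i j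
    fin_cases i <;> fin_cases j
    · exact (mul_one 1).symm
    · exact (one_mul x).symm
    · exact (mul_one x).symm
    · exact hx.symm

variable (C : Ctx D D1) (V : FischerQuad.Env D) (h24 : Cfsg.IsOfTypeM24 G D) {l : G} (hl : l ∈ D)
  (hout : ∀ d ∈ D, d ∉ commutator G) (hidx : (commutator G).index = 2)
include C V h24 hl hout hidx

theorem Stem.card_ker {Γ : Type} [Group Γ] [Finite Γ] {p : Γ →* G} {t : Γ} (S : Stem p l t) :
    Nat.card p.ker ∣ 3 := by
  have ht : ∀ m ∈ p.ker, t * m * t⁻¹ ∈ p.ker := fun m hm => (inferInstance : p.ker.Normal).conj_mem m hm t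
  have hmem : ∀ m ∈ p.ker, t * m * t⁻¹ * m⁻¹ ∈ p.ker := fun m hm => mul_mem (ht m hm) (inv_mem hm)
  let δ : p.ker →* p.ker := MonoidHom.mk' (fun m => ⟨t * m * t⁻¹ * (m : Γ)⁻¹, hmem m m.2⟩) fun a b => Subtype.ext (by
    show t * ((a : Γ) * b) * t⁻¹ * ((a : Γ) * b)⁻¹ = t * a * t⁻¹ * (a : Γ)⁻¹ * (t * b * t⁻¹ * (b : Γ)⁻¹)
    calc t * ((a : Γ) * b) * t⁻¹ * ((a : Γ) * b)⁻¹ = t * a * t⁻¹ * ((t * b * t⁻¹ * (b : Γ)⁻¹) * (a : Γ)⁻¹) := by group
      _ = t * a * t⁻¹ * ((a : Γ)⁻¹ * (t * b * t⁻¹ * (b : Γ)⁻¹)) := by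
        rw [(S.comm_ker (hmem b b.2) (inv_mem a.2)).eq]
      _ = _ := by group)
  set N := δ.range.map p.ker.subtype with hN
  have hNle : N ≤ p.ker := by rintro _ ⟨m, -, rfl⟩; exact m.2
  have hNt : ∀ n ∈ N, t * n * t⁻¹ ∈ N := by
    rintro _ ⟨_, ⟨m, rfl⟩, rfl⟩
    refine ⟨δ ⟨_, ht m m.2⟩, ⟨_, rfl⟩, ?_⟩
    show t * (t * m * t⁻¹) * t⁻¹ * (t * m * t⁻¹)⁻¹ = t * (t * m * t⁻¹ * (m : Γ)⁻¹) * t⁻¹
    group
  haveI : N.Normal := ⟨fun n hn x => by
    by_cases hx : p x ∈ commutator G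
    · rwa [← (S.central n (hNle hn) x hx).eq, mul_inv_cancel_right]
    · have hxt : p (x * t⁻¹) ∈ commutator G := by
        rw [map_mul, map_inv, S.base, Subgroup.mul_mem_iff_of_index_two hidx, inv_mem_iff]
        exact iff_of_false hx (hout l hl)
      have hc := S.central _ (hNle (hNt n hn)) _ hxt
      rw [show x * n * x⁻¹ = (x * t⁻¹) * (t * n * t⁻¹) * (x * t⁻¹)⁻¹ by group, ← hc.eq, mul_inv_cancel_right]
      exact hNt n hn⟩
  set pb := QuotientGroup.lift N p hNle with hpb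
  have hpm : ∀ x, pb (QuotientGroup.mk' N x) = p x := fun x => rfl
  have S' : Stem pb l (QuotientGroup.mk' N t) := by
    refine ⟨fun g => ?_, by rw [← map_mul, S.sq, map_one], S.base, ?_, ?_⟩
    · obtain ⟨x, rfl⟩ := S.surj g
      exact ⟨QuotientGroup.mk' N x, rfl⟩
    · intro m hm x hx
      obtain ⟨m, rfl⟩ := QuotientGroup.mk'_surjective N m
      obtain ⟨x, rfl⟩ := QuotientGroup.mk'_surjective N x
      exact (S.central m hm x hx).map (QuotientGroup.mk' N)
    · intro m hm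
      obtain ⟨m, rfl⟩ := QuotientGroup.mk'_surjective N m
      have h := Subgroup.mem_map_of_mem (QuotientGroup.mk' N) (S.stem (show m ∈ p.ker from hm))
      rw [Subgroup.map_commutator] at h
      exact Subgroup.commutator_mono (by rintro _ ⟨x, hx, rfl⟩; exact hx) (by rintro _ ⟨x, hx, rfl⟩; exact hx) h
  have hc' : ∀ m ∈ pb.ker, Commute m (QuotientGroup.mk' N t) := by
    intro m hm
    obtain ⟨m, rfl⟩ := QuotientGroup.mk'_surjective N m
    have h : t * m * t⁻¹ * m⁻¹ ∈ N := ⟨δ ⟨m, hm⟩, ⟨_, rfl⟩, rfl⟩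
    have h' := (QuotientGroup.eq_one_iff (N := N) _).2 h
    have h'' : QuotientGroup.mk' N t * QuotientGroup.mk' N m * (QuotientGroup.mk' N t)⁻¹ *
        (QuotientGroup.mk' N m)⁻¹ = 1 := h'
    exact (mul_inv_eq_iff_eq_mul.1 (mul_inv_eq_one.1 h'')).symm
  have htriv := S'.central_trivial hc' C hl hout hidx V
  have hsurj : Function.Surjective δ := fun m => by
    have h : QuotientGroup.mk' N (m : Γ) ∈ pb.ker := m.2
    rw [htriv, Subgroup.mem_bot] at h
    obtain ⟨a, ⟨b, rfl⟩, e⟩ := (QuotientGroup.eq_one_iff (N := N) _).1 h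
    exact ⟨b, Subtype.ext e⟩
  have hinj : Function.Injective δ := Finite.injective_iff_surjective.2 hsurj
  have hinv : ∀ m ∈ p.ker, t * m * t⁻¹ = m⁻¹ := fun m hm => by
    have h2 : t * (t * m * t⁻¹) * t⁻¹ = m := by
      calc t * (t * m * t⁻¹) * t⁻¹ = (t * t) * m * (t * t)⁻¹ := by group
        _ = m := by rw [S.sq]; group
    have h1 : δ (⟨m, hm⟩ * ⟨t * m * t⁻¹, ht m hm⟩) = 1 := Subtype.ext (by
      show t * (m * (t * m * t⁻¹)) * t⁻¹ * (m * (t * m * t⁻¹))⁻¹ = 1
      rw [show t * (m * (t * m * t⁻¹)) * t⁻¹ = (t * m * t⁻¹) * (t * (t * m * t⁻¹) * t⁻¹) by group, h2,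
        (S.comm_ker (ht m hm) hm).eq, mul_inv_cancel])
    have h3 : m * (t * m * t⁻¹) = 1 := congrArg Subtype.val (hinj (h1.trans (map_one δ).symm))
    exact (inv_eq_of_mul_eq_one_right h3).symm
  have hodd : Odd (Nat.card p.ker) := by
    rw [← Nat.not_even_iff_odd, even_iff_two_dvd]
    intro h2
    haveI : Fact (Nat.Prime 2) := ⟨Nat.prime_two⟩
    obtain ⟨⟨m, hm⟩, ho⟩ := exists_prime_orderOf_dvd_card' 2 h2
    have hm2 : m * m = 1 := by
      have := pow_orderOf_eq_one (⟨m, hm⟩ : p.ker)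
      rw [ho, pow_two] at this
      exact congrArg Subtype.val this
    have h3 : δ ⟨m, hm⟩ = 1 := Subtype.ext (by
      show t * m * t⁻¹ * m⁻¹ = 1
      rw [hinv m hm, inv_eq_of_mul_eq_one_right hm2, hm2])
    have h4 := hinj (h3.trans (map_one δ).symm)
    rw [h4, orderOf_one] at ho
    norm_num at ho
  exact S.card_dvd_three hinv hodd C hl hout hidx h24

/-- The kernel of a stem extension of the subgroup of index two has order dividing three. -/
theorem card_stem_ker (hperf : ⁅commutator G, commutator G⁆ = commutator G) {E : Type} [Group E] [Finite E]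
    (τ : E →* ↥(commutator G)) (hτ : Cfsg.IsStemExtension τ) : Nat.card τ.ker ∣ 3 := by
  obtain ⟨hs, hz, hk⟩ := hτ
  have hl2 : l * l = 1 := TSet.sq C.group.1 hl
  have hli : l⁻¹ = l := TSet.inv C.group.1 hl
  let θ : MulAut ↥(commutator G) := MulAut.conjNormal l
  have hθ : ∀ x, θ (θ x) = x := fun x => Subtype.ext (by
    show l * (l * (x : G) * l⁻¹) * l⁻¹ = x
    calc l * (l * (x : G) * l⁻¹) * l⁻¹ = (l * l) * x * (l * l)⁻¹ := by group
      _ = x := by rw [hl2]; group)
  -- the perfect cover of the pair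
  let P : Subgroup (E × E) := (τ.comp (MonoidHom.snd E E)).eqLocus ((θ.toMonoidHom.comp τ).comp (MonoidHom.fst E E))
  have hP : ∀ z, z ∈ P ↔ τ z.2 = θ (τ z.1) := fun z => Iff.rfl
  set E2 := ⁅P, P⁆ with hE2
  have hswap : ∀ z ∈ E2, (z.2, z.1) ∈ E2 := fun z hz => by
    have h : P.map (MulEquiv.prodComm (M := E) (N := E)).toMonoidHom ≤ P := by
      rintro _ ⟨w, hw, rfl⟩
      show τ w.1 = θ (τ w.2)
      rw [(hP w).1 hw, hθ]
    have h2 := Subgroup.mem_map_of_mem (MulEquiv.prodComm (M := E) (N := E)).toMonoidHom hz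
    rw [Subgroup.map_commutator] at h2
    exact Subgroup.commutator_mono h h h2
  have hE2P : E2 ≤ P := Subgroup.commutator_le.2 fun a ha b hb => by
    rw [commutatorElement_def]
    exact mul_mem (mul_mem (mul_mem ha hb) (inv_mem ha)) (inv_mem hb)
  let θ2 : MulAut ↥E2 :=
    { toFun := fun z => ⟨(z.1.2, z.1.1), hswap z z.2⟩
      invFun := fun z => ⟨(z.1.2, z.1.1), hswap z z.2⟩
      left_inv := fun z => rfl
      right_inv := fun z => rfl
      map_mul' := fun z w => rfl }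
  have hθ2 : θ2 * θ2 = 1 := MulEquiv.ext fun z => rfl
  let φ : Multiplicative (ZMod 2) →* MulAut ↥E2 := two θ2 hθ2
  let f : ↥E2 →* G := (commutator G).subtype.comp (τ.comp ((MonoidHom.fst E E).comp E2.subtype))
  let g : Multiplicative (ZMod 2) →* G := two l hl2
  have hfg : ∀ i, f.comp (φ i).toMonoidHom = (MulAut.conj (g i)).toMonoidHom.comp f := by
    intro i
    refine MonoidHom.ext fun z => ?_
    show f (φ i z) = g i * f z * (g i)⁻¹
    by_cases hi : i.toAdd = 0
    · rw [show φ i = 1 from if_pos hi, show g i = 1 from if_pos hi]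
      show f z = _
      group
    · rw [show φ i = θ2 from if_neg hi, show g i = l from if_neg hi]
      have h : τ z.1.2 = θ (τ z.1.1) := hE2P z.2
      show (τ z.1.2 : G) = l * (τ z.1.1 : G) * l⁻¹
      rw [h]; rfl
  let p : ↥E2 ⋊[φ] Multiplicative (ZMod 2) →* G := SemidirectProduct.lift f g hfg
  set t : ↥E2 ⋊[φ] Multiplicative (ZMod 2) := SemidirectProduct.inr (Multiplicative.ofAdd 1) with htdef
  have hp_inl : ∀ z, p (SemidirectProduct.inl z) = f z := fun z => SemidirectProduct.lift_inl _ _ _ z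
  have hpt : p t = l := by
    rw [htdef, SemidirectProduct.lift_inr]
    rfl
  -- coverage
  have hEE : ∀ x : E, ∃ y, (x, y) ∈ P := fun x => by
    obtain ⟨y, hy⟩ := hs (θ (τ x))
    exact ⟨y, hy⟩
  have hperfL : commutator ↥(commutator G) = ⊤ := by
    refine eq_top_iff.2 fun x _ => ?_
    have h : (x : G) ∈ ⁅commutator G, commutator G⁆ := hperf.symm.le x.2
    rw [← Subgroup.map_subtype_commutator] at h
    obtain ⟨y, hy, e⟩ := h
    rwa [← show y = x from Subtype.ext e]
  have hperfE : commutator E = ⊤ := by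
    refine eq_top_iff.2 fun x _ => ?_
    have h : Subgroup.map τ ⁅(⊤ : Subgroup E), (⊤ : Subgroup E)⁆ = ⁅(⊤ : Subgroup ↥(commutator G)), (⊤ : Subgroup ↥(commutator G))⁆ := by
      rw [Subgroup.map_commutator, Subgroup.map_top_of_surjective τ hs]
    obtain ⟨y, hy, e⟩ := (h.trans ((commutator_def _).symm.trans hperfL)).ge (Subgroup.mem_top (τ x))
    have : y⁻¹ * x ∈ τ.ker := by rw [MonoidHom.mem_ker, map_mul, map_inv, e, inv_mul_cancel]
    have := mul_mem (show y ∈ commutator E from hy) (hk this)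
    rwa [mul_inv_cancel_left] at this
  have hfst : E2.map (MonoidHom.fst E E) = ⊤ := by
    rw [hE2, Subgroup.map_commutator, show P.map (MonoidHom.fst E E) = ⊤ from eq_top_iff.2 fun x _ => by
      obtain ⟨y, hy⟩ := hEE x
      exact ⟨(x, y), hy, rfl⟩, ← commutator_def, hperfE]
  have hfs : ∀ x : ↥(commutator G), ∃ z, f z = (x : G) := fun x => by
    obtain ⟨a, rfl⟩ := hs x
    obtain ⟨z, hz, rfl⟩ : a ∈ E2.map (MonoidHom.fst E E) := hfst ▸ Subgroup.mem_top a
    exact ⟨⟨z, hz⟩, rfl⟩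
  have hsurj : Function.Surjective p := fun x => by
    by_cases hx : x ∈ (commutator G)
    · obtain ⟨z, hz⟩ := hfs ⟨x, hx⟩
      exact ⟨_, (hp_inl z).trans hz⟩
    · have hlx : l * x ∈ (commutator G) := by
        rw [Subgroup.mul_mem_iff_of_index_two hidx]
        exact iff_of_false (hout l hl) hx
      obtain ⟨z, hz⟩ := hfs ⟨l * x, hlx⟩
      exact ⟨t * SemidirectProduct.inl z, by rw [map_mul, hpt, hp_inl, hz, ← mul_assoc, hl2, one_mul]⟩
  have hin : ∀ x, p x ∈ (commutator G) → ∃ z, SemidirectProduct.inl z = x := fun x hx => by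
    refine ⟨x.left, ?_⟩
    have hr : x.right.toAdd = 0 := by
      by_contra h
      have h' : f x.left * g x.right ∈ (commutator G) := hx
      rw [show g x.right = l from if_neg h, Subgroup.mul_mem_iff_of_index_two hidx] at h'
      exact hout l hl (h'.1 ((τ (x.left : E × E).1).2))
    refine SemidirectProduct.ext rfl ?_
    show (1 : Multiplicative (ZMod 2)) = x.right
    exact (Multiplicative.toAdd.injective (hr.trans toAdd_one.symm)).symm
  have hker2 : ∀ z : ↥E2, f z = 1 → τ z.1.1 = 1 ∧ τ z.1.2 = 1 := fun z hz => by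
    have h1 : τ z.1.1 = 1 := Subtype.ext hz
    have h2 : τ z.1.2 = θ (τ z.1.1) := hE2P z.2
    rw [h1, map_one] at h2
    exact ⟨h1, h2⟩
  have hperf2 : E2 ≤ ⁅E2, E2⁆ := by
    conv_lhs => rw [hE2]
    refine Subgroup.commutator_le.2 fun a ha b hb => ?_
    have split : ∀ a ∈ P, ∃ e ∈ E2, ∃ z : E × E, z ∈ Subgroup.center (E × E) ∧ a = e * z := fun a ha => by
      obtain ⟨e, he, hea⟩ : a.1 ∈ E2.map (MonoidHom.fst E E) := hfst ▸ Subgroup.mem_top _
      refine ⟨e, he, e⁻¹ * a, ?_, (mul_inv_cancel_left _ _).symm⟩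
      have h1 : e.1 = a.1 := hea
      have hkz : ∀ y : E, τ y = 1 → ∀ x, x * y = y * x := fun y hy =>
        Subgroup.mem_center_iff.1 (hz hy)
      have k1 : τ (e.1⁻¹ * a.1) = 1 := by rw [h1, inv_mul_cancel, map_one]
      have k2 : τ (e.2⁻¹ * a.2) = 1 := by rw [map_mul, map_inv, (hP e).1 (hE2P he), (hP a).1 ha, h1, inv_mul_cancel]
      exact Subgroup.mem_center_iff.2 fun x => Prod.ext (hkz _ k1 x.1) (hkz _ k2 x.2)
    obtain ⟨e, he, z, hz', rfl⟩ := split a ha
    obtain ⟨e', he', z', hz'', rfl⟩ := split b hb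
    have ka := Subgroup.mem_center_iff.1 hz'
    have kb := Subgroup.mem_center_iff.1 hz''
    have key : ⁅e * z, e' * z'⁆ = ⁅e, e'⁆ := by
      rw [commutatorElement_def, commutatorElement_def, mul_inv_rev, mul_inv_rev]
      calc e * z * (e' * z') * (z⁻¹ * e⁻¹) * (z'⁻¹ * e'⁻¹) = e * (z * (e' * z')) * z⁻¹ * e⁻¹ * (z'⁻¹ * e'⁻¹) := by group
        _ = e * e' * (z' * e⁻¹) * (z'⁻¹ * e'⁻¹) := by rw [← ka (e' * z')]; group
        _ = e * e' * e⁻¹ * e'⁻¹ := by rw [← kb e⁻¹]; group
    rw [key]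
    exact Subgroup.commutator_mem_commutator he he'
  have S : Stem p l t := by
    refine ⟨hsurj, ?_, hpt, fun m hm x hx => ?_, fun m hm => ?_⟩
    · rw [htdef, ← map_mul, ← ofAdd_add, show (1 + 1 : ZMod 2) = 0 by decide, ofAdd_zero, map_one]
    · obtain ⟨z, rfl⟩ := hin x hx
      obtain ⟨w, rfl⟩ := hin m (by rw [MonoidHom.mem_ker.1 hm]; exact one_mem _)
      obtain ⟨k1, k2⟩ := hker2 w ((hp_inl w).symm.trans hm)
      exact (show Commute w z from Subtype.ext (Prod.ext (Subgroup.mem_center_iff.1 (hz k1) _).symm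
        (Subgroup.mem_center_iff.1 (hz k2) _).symm)).map SemidirectProduct.inl
    · obtain ⟨w, rfl⟩ := hin m (by rw [MonoidHom.mem_ker.1 hm]; exact one_mem _)
      obtain ⟨v, hv, e⟩ : (w : E × E) ∈ (commutator ↥E2).map E2.subtype := by
        rw [commutator_def, Subgroup.map_commutator, ← MonoidHom.range_eq_map, Subgroup.range_subtype]
        exact hperf2 w.2
      have : w ∈ commutator ↥E2 := by rwa [show w = v from Subtype.ext e.symm]
      have h := Subgroup.mem_map_of_mem (SemidirectProduct.inl (φ := φ)) this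
      rw [commutator_def, Subgroup.map_commutator] at h
      refine Subgroup.commutator_mono ?_ ?_ h <;>
        (rintro _ ⟨z, -, rfl⟩; show p (SemidirectProduct.inl z) ∈ (commutator G); rw [hp_inl]; exact (τ _).2)
  haveI : Finite (↥E2 ⋊[φ] Multiplicative (ZMod 2)) := Finite.of_equiv _ SemidirectProduct.equivProd.symm
  have h3 := S.card_ker C V h24 hl hout hidx
  -- project to the kernel
  let ι : p.ker →* τ.ker := MonoidHom.mk'
    (fun m => ⟨((m : ↥E2 ⋊[φ] Multiplicative (ZMod 2)).left : E × E).1, by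
      obtain ⟨w, hw⟩ := hin m (by rw [MonoidHom.mem_ker.1 m.2]; exact one_mem _)
      rw [← hw]
      exact (hker2 w ((hp_inl w).symm.trans (hw ▸ m.2))).1⟩) fun a b => Subtype.ext (by
      obtain ⟨w, hw⟩ := hin a (by rw [MonoidHom.mem_ker.1 a.2]; exact one_mem _)
      obtain ⟨w', hw'⟩ := hin b (by rw [MonoidHom.mem_ker.1 b.2]; exact one_mem _)
      show ((a : ↥E2 ⋊[φ] Multiplicative (ZMod 2)) * b).left.1.1 = _ * _
      have ea : (a : ↥E2 ⋊[φ] Multiplicative (ZMod 2)).right = 1 :=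
        (congrArg SemidirectProduct.right hw.symm).trans (SemidirectProduct.right_inl w)
      rw [SemidirectProduct.mul_left, ea, map_one]
      rfl)
  have hι : Function.Surjective ι := fun x => by
    obtain ⟨z, hz2, e⟩ : (x : E) ∈ E2.map (MonoidHom.fst E E) := hfst ▸ Subgroup.mem_top _
    have hk' : p (SemidirectProduct.inl ⟨z, hz2⟩) = 1 := by
      rw [hp_inl]
      show ((τ z.1 : ↥(commutator G)) : G) = 1
      rw [show z.1 = (x : E) from e, MonoidHom.mem_ker.1 x.2]; rfl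
    exact ⟨⟨_, hk'⟩, Subtype.ext e⟩
  exact (Subgroup.card_dvd_of_surjective ι hι).trans h3

end Cfsg.Agent.FischerMult24
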